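import Groth.Agent.Lib.NodeEt.Node
import Groth.Agent.Lib.Equidim6.Basic
import Groth.Agent.Lib.LocProp.SmoothDescendScheme
import Groth.Agent.Lib.LocProp.Stalk
import Groth.Agent.Lib.GrpSchField.Neron

/-!
# Nodal families and étale morphisms
-/

set_option autoImplicit false
set_option linter.all false
set_option backward.isDefEq.respectTransparency false

universe u

open CategoryTheory Limits AlgebraicGeometry IsLocalRing

noncomputable section

namespace GrothLib.NodeEt

variable {k k' : Type u} [Field k] [Field k'] [Algebra k k'] [Module.Finite k k'] [Algebra.IsSeparable k k']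
  {X Z : Scheme.{u}} (sX : X ⟶ Spec (CommRingCat.of k)) [LocallyOfFiniteType sX]
  (sZ : Z ⟶ Spec (CommRingCat.of k')) (φ : Z ⟶ X) [Etale φ]
  (comm : φ ≫ sX = sZ ≫ Spec.map (CommRingCat.ofHom (algebraMap k k')))

include comm

theorem smooth_nhd_iff_of_etale (z : Z) :
    (∃ U : Z.Opens, z ∈ U ∧ Smooth (U.ι ≫ sZ)) ↔ ∃ U : X.Opens, φ z ∈ U ∧ Smooth (U.ι ≫ sX) := by
  let i := Spec.map (CommRingCat.ofHom (algebraMap k k'))
  haveI : Etale i := etale_specMap_separable k k'
  have h1 : (∃ U : Z.Opens, z ∈ U ∧ Smooth (U.ι ≫ sZ)) ↔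
      ∃ U : Z.Opens, z ∈ U ∧ Smooth (U.ι ≫ φ ≫ sX) := by
    constructor
    · rintro ⟨U, hU, h⟩
      refine ⟨U, hU, ?_⟩
      rw [comm, ← Category.assoc]
      infer_instance
    · rintro ⟨U, hU, h⟩
      refine ⟨U, hU, ?_⟩
      haveI : Smooth ((U.ι ≫ sZ) ≫ i) := by rw [Category.assoc, ← comm]; exact h
      exact GrothLib.GrpSchField.smooth_of_comp_etale (U.ι ≫ sZ) i inferInstance
  rw [h1]
  haveI : IsLocallyNoetherian X := LocallyOfFiniteType.isLocallyNoetherian sX
  haveI : LocallyOfFinitePresentation sX := GrothLib.LocProp.locallyOfFinitePresentation_of_isLocallyNoetherian sX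
  constructor
  · intro h
    have := GrothLib.LocProp.mem_smoothLocus_descends φ sX z (Flat.stalkMap φ z)
      ((GrothLib.LocProp.smooth_nhd_iff (φ ≫ sX) z).1 h)
    exact (GrothLib.LocProp.smooth_nhd_iff sX (φ z)).2 this
  · rintro ⟨U, hU, h⟩
    refine ⟨φ ⁻¹ᵁ U, hU, ?_⟩
    rw [← Category.assoc, ← morphismRestrict_ι, Category.assoc]
    infer_instance

theorem goodPoint_iff_of_etale (z : Z) :
    ((∃ U : Z.Opens, z ∈ U ∧ Smooth (U.ι ≫ sZ)) ∨ @Curv2.IsNode k' _ Z ⟨sZ⟩ z) ↔
      ((∃ U : X.Opens, φ z ∈ U ∧ Smooth (U.ι ≫ sX)) ∨ @Curv2.IsNode k _ X ⟨sX⟩ (φ z)) :=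
  or_congr (smooth_nhd_iff_of_etale sX sZ φ comm z) (isNode_iff_of_etale sX sZ φ comm z)

theorem atWorstNodal_of_etale (h : @Curv2.AtWorstNodal k _ X ⟨sX⟩) : @Curv2.AtWorstNodal k' _ Z ⟨sZ⟩ :=
  fun z hz => (goodPoint_iff_of_etale sX sZ φ comm z).2 (h (φ z) ((isClosed_singleton_iff_of_etale sX φ z).1 hz))

theorem good_of_atWorstNodal (h : @Curv2.AtWorstNodal k' _ Z ⟨sZ⟩) (z : Z) (hz : IsClosed ({φ z} : Set X)) :
    (∃ U : X.Opens, φ z ∈ U ∧ Smooth (U.ι ≫ sX)) ∨ @Curv2.IsNode k _ X ⟨sX⟩ (φ z) :=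
  (goodPoint_iff_of_etale sX sZ φ comm z).1 (h z ((isClosed_singleton_iff_of_etale sX φ z).2 hz))

theorem localDim_eq_one_of_etale (h : ∀ W ∈ irreducibleComponents (Z : Type u), topologicalKrullDim W = 1)
    (z : Z) : FlatMor.localDim X (φ z) = 1 := by
  haveI : LocallyOfFiniteType sZ := by
    haveI : LocallyOfFiniteType (sZ ≫ Spec.map (CommRingCat.ofHom (algebraMap k k'))) := by
      rw [← comm]; infer_instance
    exact locallyOfFiniteType_of_comp sZ (Spec.map (CommRingCat.ofHom (algebraMap k k')))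
  rw [GrothLib.EtFibre.localDim_eq_of_etale φ z]
  exact (GrothLib.Equidim6.equidim_iff sZ 1).1 (by simpa using h) z

theorem components_dim_one_of_etale (h : ∀ W ∈ irreducibleComponents (X : Type u), topologicalKrullDim W = 1) :
    ∀ W ∈ irreducibleComponents (Z : Type u), topologicalKrullDim W = 1 := by
  haveI : LocallyOfFiniteType sZ := by
    haveI : LocallyOfFiniteType (sZ ≫ Spec.map (CommRingCat.ofHom (algebraMap k k'))) := by
      rw [← comm]; infer_instance
    exact locallyOfFiniteType_of_comp sZ (Spec.map (CommRingCat.ofHom (algebraMap k k')))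
  have h1 : ∀ W ∈ irreducibleComponents (Z : Type u), topologicalKrullDim W = ((1 : ℕ) : WithBot ℕ∞) :=
    (GrothLib.Equidim6.equidim_iff sZ 1).2 fun z => by
      rw [← GrothLib.EtFibre.localDim_eq_of_etale φ z]
      exact (GrothLib.Equidim6.equidim_iff sX 1).1 (by simpa using h) (φ z)
  simpa using h1

omit comm

theorem locallyOfFiniteType_fiberTo {X S : Scheme.{u}} (f : X ⟶ S) [LocallyOfFiniteType f] (s : S) :
    LocallyOfFiniteType (f.fiberToSpecResidueField s) := MorphismProperty.pullback_snd _ _ inferInstance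

/-- The map of fibres induced by a morphism of the source. -/
theorem exists_fiberMap {X Y S : Scheme.{u}} (f : X ⟶ S) (g : Y ⟶ X) [Etale g] (s : S) :
    ∃ φ : (g ≫ f).fiber s ⟶ f.fiber s, Etale φ ∧
      φ ≫ f.fiberToSpecResidueField s = (g ≫ f).fiberToSpecResidueField s ∧
      ∀ y : Y, g y ∈ Set.range (f.fiberι s) → ∃ z, (g ≫ f).fiberι s z = y ∧ f.fiberι s (φ z) = g y := by
  let φ : (g ≫ f).fiber s ⟶ f.fiber s := pullback.lift ((g ≫ f).fiberι s ≫ g)
    ((g ≫ f).fiberToSpecResidueField s) (by rw [Category.assoc]; exact pullback.condition)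
  have hsq : IsPullback ((g ≫ f).fiberι s) φ g (f.fiberι s) := by
    refine IsPullback.of_bot ?_ (pullback.lift_fst _ _ _).symm
      (IsPullback.of_hasPullback f (S.fromSpecResidueField s))
    rw [pullback.lift_snd]
    exact IsPullback.of_hasPullback (g ≫ f) (S.fromSpecResidueField s)
  refine ⟨φ, MorphismProperty.of_isPullback hsq ‹Etale g›, pullback.lift_snd _ _ _, fun y hy => ?_⟩
  obtain ⟨w, hw⟩ := hy
  obtain ⟨z, hz, hz'⟩ := Scheme.Pullback.exists_preimage_pullback y w hw.symm
  refine ⟨hsq.isoPullback.inv z, ?_, ?_⟩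
  · rw [← Scheme.Hom.comp_apply, hsq.isoPullback_inv_fst, hz]
  · rw [← Scheme.Hom.comp_apply hsq.isoPullback.inv φ, hsq.isoPullback_inv_snd, hz', hw]

theorem isNodalFamily_comp_etale {X Y S : Scheme.{u}} (f : X ⟶ S) (hf : Curv2.IsNodalFamily f)
    (g : Y ⟶ X) [Etale g] : Curv2.IsNodalFamily (g ≫ f) := by
  haveI := hf.1
  haveI := hf.2.1
  refine ⟨inferInstance, inferInstance, fun s => ?_⟩
  haveI := locallyOfFiniteType_fiberTo (f) s
  obtain ⟨φ, hφ, hcomm, -⟩ := exists_fiberMap f g s
  have comm : φ ≫ f.fiberToSpecResidueField s = (g ≫ f).fiberToSpecResidueField s ≫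
      Spec.map (CommRingCat.ofHom (algebraMap (S.residueField s) (S.residueField s))) := by
    rw [hcomm]; erw [Spec.map_id, Category.comp_id]
  exact ⟨components_dim_one_of_etale (k := S.residueField s) (k' := S.residueField s) (f.fiberToSpecResidueField s) _ φ comm (hf.2.2 s).1,
    atWorstNodal_of_etale (k := S.residueField s) (k' := S.residueField s) (f.fiberToSpecResidueField s) _ φ comm (hf.2.2 s).2⟩

theorem isNodalFamily_of_etale_cover {X S : Scheme.{u}} (f : X ⟶ S) [Flat f] [LocallyOfFinitePresentation f]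
    (ι : Type u) (U : ι → Scheme.{u}) (g : ∀ i, U i ⟶ X) [∀ i, Etale (g i)]
    (hsurj : ∀ x : X, ∃ i, x ∈ Set.range (g i).base) (h : ∀ i, Curv2.IsNodalFamily (g i ≫ f)) :
    Curv2.IsNodalFamily f := by
  refine ⟨inferInstance, inferInstance, fun s => ?_⟩
  haveI := locallyOfFiniteType_fiberTo (f) s
  have key : ∀ x : f.fiber s, ∃ (i : ι) (φ : (g i ≫ f).fiber s ⟶ f.fiber s) (z : (g i ≫ f).fiber s),
      Etale φ ∧ φ z = x ∧ φ ≫ f.fiberToSpecResidueField s = (g i ≫ f).fiberToSpecResidueField s ≫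
        Spec.map (CommRingCat.ofHom (algebraMap (S.residueField s) (S.residueField s))) := by
    intro x
    obtain ⟨i, y, hy⟩ := hsurj (f.fiberι s x)
    obtain ⟨φ, hφ, hcomm, hpt⟩ := exists_fiberMap f (g i) s
    obtain ⟨z, -, hz⟩ := hpt y ⟨x, hy.symm⟩
    refine ⟨i, φ, z, hφ, (f.fiberι s).isEmbedding.injective (hz.trans hy), ?_⟩
    rw [hcomm]; erw [Spec.map_id, Category.comp_id]
  constructor
  · have h1 : ∀ W ∈ irreducibleComponents (f.fiber s : Type u), topologicalKrullDim W = ((1 : ℕ) : WithBot ℕ∞) :=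
      (GrothLib.Equidim6.equidim_iff (K := S.residueField s) (f.fiberToSpecResidueField s) 1).2 fun x => by
        obtain ⟨i, φ, z, hφ, rfl, comm⟩ := key x
        simpa using localDim_eq_one_of_etale (k := S.residueField s) (k' := S.residueField s) (f.fiberToSpecResidueField s) _ φ comm ((h i).2.2 s).1 z
    simpa using h1
  · intro x hx
    obtain ⟨i, φ, z, hφ, rfl, comm⟩ := key x
    exact good_of_atWorstNodal (k := S.residueField s) (k' := S.residueField s) (f.fiberToSpecResidueField s) _ φ comm ((h i).2.2 s).2 z hx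

theorem isSeparable_residueFieldMap {V V' : Scheme.{u}} (b : V' ⟶ V) [Etale b] (v : V') :
    letI := (b.residueFieldMap v).hom.toAlgebra
    Module.Finite (V.residueField (b v)) (V'.residueField v) ∧
      Algebra.IsSeparable (V.residueField (b v)) (V'.residueField v) := by
  haveI := GrothLib.EtBasicB.locallyQuasiFinite_of_unramified b
  have h : (b.residueFieldMap v).hom.Finite := GrothLib.Weight.finite_residueFieldMap b v
  letI := (b.residueFieldMap v).hom.toAlgebra
  haveI : Module.Finite (V.residueField (b v)) (V'.residueField v) := h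
  exact ⟨inferInstance, inferInstance⟩

theorem isNodalFamily_etale_comp {X S S' : Scheme.{u}} (e : S' ⟶ S) [Etale e] (f : X ⟶ S')
    (hf : Curv2.IsNodalFamily f) : Curv2.IsNodalFamily (f ≫ e) := by
  haveI := hf.1
  haveI := hf.2.1
  refine ⟨inferInstance, inferInstance, fun s => ?_⟩
  haveI := locallyOfFiniteType_fiberTo (f ≫ e) s
  have key : ∀ z : (f ≫ e).fiber s, ∃ (s' : S') (_ : e s' = s) (φ : f.fiber s' ⟶ (f ≫ e).fiber s)
      (z' : f.fiber s') (_ : Etale φ), φ z' = z ∧ ∃ a : S.residueField s ⟶ S'.residueField s',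
        (letI := a.hom.toAlgebra
         Module.Finite (S.residueField s) (S'.residueField s') ∧
           Algebra.IsSeparable (S.residueField s) (S'.residueField s')) ∧
        φ ≫ (f ≫ e).fiberToSpecResidueField s = f.fiberToSpecResidueField s' ≫ Spec.map a := by
    suffices H : ∀ (s' : S') (t : S) (_ : e s' = t) (z : (f ≫ e).fiber t), f ((f ≫ e).fiberι t z) = s' →
        ∃ (s' : S') (_ : e s' = t) (φ : f.fiber s' ⟶ (f ≫ e).fiber t)
          (z' : f.fiber s') (_ : Etale φ), φ z' = z ∧ ∃ a : S.residueField t ⟶ S'.residueField s',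
            (letI := a.hom.toAlgebra
             Module.Finite (S.residueField t) (S'.residueField s') ∧
               Algebra.IsSeparable (S.residueField t) (S'.residueField s')) ∧
            φ ≫ (f ≫ e).fiberToSpecResidueField t = f.fiberToSpecResidueField s' ≫ Spec.map a by
      intro z
      refine H _ s ?_ z rfl
      have := (Scheme.Hom.range_fiberι (f ≫ e) s).le ⟨z, rfl⟩
      simpa using this
    rintro s' t rfl z hs'
    let φ : f.fiber s' ⟶ (f ≫ e).fiber (e s') :=
      pullback.lift (f.fiberι s') (f.fiberToSpecResidueField s' ≫ Spec.map (e.residueFieldMap s')) (by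
        rw [Category.assoc, Scheme.Hom.SpecMap_residueFieldMap_fromSpecResidueField, ← Category.assoc,
          ← Category.assoc]
        exact congrArg (· ≫ e) pullback.condition)
    have h1 : φ ≫ (f ≫ e).fiberι _ = f.fiberι s' := pullback.lift_fst _ _ _
    have h2 : φ ≫ (f ≫ e).fiberToSpecResidueField _ =
        f.fiberToSpecResidueField s' ≫ Spec.map (e.residueFieldMap s') := pullback.lift_snd _ _ _
    haveI : Etale φ := GrothLib.EtFibre.etale_fiberMap (f ≫ e) f (𝟙 X) e (by simp) s' φ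
      (by rw [h1, Category.comp_id]) h2
    obtain ⟨z', hz'⟩ : (f ≫ e).fiberι _ z ∈ Set.range (f.fiberι s') := by
      rw [Scheme.Hom.range_fiberι]; exact hs'
    refine ⟨s', rfl, φ, z', inferInstance, ?_, e.residueFieldMap s', isSeparable_residueFieldMap e s', h2⟩
    apply ((f ≫ e).fiberι _).isEmbedding.injective
    rw [← Scheme.Hom.comp_apply, h1]; exact hz'
  constructor
  · have h1 : ∀ W ∈ irreducibleComponents ((f ≫ e).fiber s : Type u),
        topologicalKrullDim W = ((1 : ℕ) : WithBot ℕ∞) :=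
      (GrothLib.Equidim6.equidim_iff (K := S.residueField s) ((f ≫ e).fiberToSpecResidueField s) 1).2
        fun z => by
          obtain ⟨s', -, φ, z', hφ, rfl, a, ⟨ha1, ha2⟩, comm⟩ := key z
          letI := a.hom.toAlgebra
          simpa using localDim_eq_one_of_etale (k := S.residueField s) (k' := S'.residueField s') ((f ≫ e).fiberToSpecResidueField s)
            (f.fiberToSpecResidueField s') φ comm (hf.2.2 s').1 z'
    simpa using h1
  · intro z hz
    obtain ⟨s', -, φ, z', hφ, rfl, a, ⟨ha1, ha2⟩, comm⟩ := key z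
    letI := a.hom.toAlgebra
    exact good_of_atWorstNodal (k := S.residueField s) (k' := S'.residueField s') ((f ≫ e).fiberToSpecResidueField s)
      (f.fiberToSpecResidueField s') φ comm (hf.2.2 s').2 z' hz

end GrothLib.NodeEt
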