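import Groth.Agent.Lib.NodeEt.BaseChange
import Groth.Agent.Lib.NodeEt.Family
import Groth.Agent.Lib.SepPts.SmoothDense
import Groth.Agent.Lib.CurveLocus.Basic
import Groth.Agent.Lib.ArSurf29.NodeReduced
import Groth.Agent.Lib.FibreBC.Basic
import Groth.Agent.Lib.FBase7.Reduced

/-!
# At-worst-nodal curves and extensions of the ground field
-/

set_option autoImplicit false
set_option linter.style.haveILetI false
set_option backward.isDefEq.respectTransparency false

universe u

open CategoryTheory Limits AlgebraicGeometry Topology TopologicalSpace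

noncomputable section

namespace GrothLib.NodeEt

theorem smooth_nhd_preimage {X X' S S' : Scheme.{u}} {p : X ⟶ S} {q : X' ⟶ S'} {i : X' ⟶ X} {t : S' ⟶ S}
    (hsq : IsPullback i q p t) (z : X') (h : ∃ U : X.Opens, i z ∈ U ∧ Smooth (U.ι ≫ p)) :
    ∃ V : X'.Opens, z ∈ V ∧ Smooth (V.ι ≫ q) := by
  obtain ⟨U, hU, hs⟩ := h
  exact ⟨i ⁻¹ᵁ U, hU, MorphismProperty.of_isPullback
    ((isPullback_morphismRestrict i U).paste_vert hsq) hs⟩

variable {k : Type u} [Field k] {X : Scheme.{u}} (p : X ⟶ Spec (CommRingCat.of k)) [LocallyOfFiniteType p]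

/-- A curve with at worst nodal singularities is geometrically reduced. -/
theorem geometricallyReduced_of_atWorstNodal (h : @Curv2.AtWorstNodal k _ X ⟨p⟩) : GeometricallyReduced p := by
  let K := AlgebraicClosure k
  let τ := Spec.map (CommRingCat.ofHom (algebraMap k K))
  have hbar : IsReduced (pullback p τ) := by
    refine GrothLib.ArSurf29.isReduced_of_closedPoints (pullback.snd p τ) fun xb hxb => ?_
    haveI : IsIntegralHom τ := IsIntegralHom.SpecMap_iff.mpr (Algebra.IsIntegral.isIntegral (R := k) (A := K))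
    have hx : IsClosed ({pullback.fst p τ xb} : Set X) := by
      rw [← Set.image_singleton]; exact (pullback.fst p τ).isClosedMap _ hxb
    rcases h _ hx with hsm | hnode
    · obtain ⟨V, hV, hVs⟩ := smooth_nhd_preimage (IsPullback.of_hasPullback p τ) xb hsm
      haveI : IsReduced V.toScheme := GrothLib.RedSmooth.isReduced_of_smooth (V.ι ≫ pullback.snd p τ)
      exact isReduced_of_injective (V.stalkIso ⟨xb, hV⟩).inv.hom
        (ConcreteCategory.bijective_of_isIso (V.stalkIso ⟨xb, hV⟩).inv).1
    · have hodp := ((isNode_iff_odp p K xb _ rfl).1 hnode).2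
      haveI : IsLocallyNoetherian (pullback p τ) := LocallyOfFiniteType.isLocallyNoetherian (pullback.snd p τ)
      exact @GrothLib.ArSurf29.isReduced_of_isOrdDoublePt K _ _ _ (_) _ _ hodp
  haveI : IsReduced (FBase.bc p K) := hbar
  exact GrothLib.FBase7.geometricallyReduced_of_perfect p K

omit [LocallyOfFiniteType p] in
/-- A point which is not closed in a space of dimension at most one is maximal. -/
theorem maximal_of_not_isClosed {Y : Scheme.{u}} (hY : topologicalKrullDim Y ≤ 1) {x : Y}
    (hx : ¬ IsClosed ({x} : Set Y)) (w : Y) (hw : w ⤳ x) : w = x := by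
  by_contra hne
  obtain ⟨x0, hx0, hne0⟩ : ∃ x0 ∈ closure ({x} : Set Y), x0 ≠ x := by
    by_contra hall
    push Not at hall
    exact hx (isClosed_of_closure_subset fun y hy => hall y hy)
  let C : Y → IrreducibleCloseds Y := fun y =>
    ⟨closure {y}, isIrreducible_singleton.closure, isClosed_closure⟩
  have hlt : ∀ a b : Y, b ⤳ a → a ≠ b → C a < C b := fun a b hab hne => by
    refine lt_of_le_of_ne (closure_minimal (Set.singleton_subset_iff.2 hab.mem_closure) isClosed_closure)
      fun he => hne ?_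
    have h1 : a ⤳ b := specializes_iff_mem_closure.2
      ((congrArg (fun c : IrreducibleCloseds Y => (c : Set Y)) he).ge (subset_closure rfl))
    exact (h1.antisymm hab).eq
  let c : LTSeries (IrreducibleCloseds Y) :=
    ((RelSeries.singleton _ (C x0)).snoc (C x) (by
      simpa using hlt x0 x (specializes_iff_mem_closure.2 hx0) hne0)).snoc (C w) (by
      simpa using hlt x w hw (Ne.symm hne))
  have h2 : ((c.length : ℕ) : WithBot ℕ∞) ≤ 1 := (Order.LTSeries.length_le_krullDim c).trans hY
  have h3 : c.length = 2 := rfl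
  rw [h3] at h2
  exact absurd h2 (by decide)

variable {K : Type u} [Field K] [Algebra k K] {Z : Scheme.{u}} {i : Z ⟶ X} {q : Z ⟶ Spec (CommRingCat.of K)}

/-- Nodes persist on extending the ground field. -/
theorem isNode_of_isPullback (hsq : IsPullback i q p (Spec.map (CommRingCat.ofHom (algebraMap k K))))
    (z : Z) (hz : IsClosed ({z} : Set Z)) (h : @Curv2.IsNode k _ X ⟨p⟩ (i z)) :
    @Curv2.IsNode K _ Z ⟨q⟩ z := by
  let kb := AlgebraicClosure k
  let Ω := AlgebraicClosure K
  let τ := Spec.map (CommRingCat.ofHom (algebraMap k kb))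
  let τK := Spec.map (CommRingCat.ofHom (algebraMap K Ω))
  haveI : LocallyOfFiniteType q := MorphismProperty.of_isPullback hsq ‹LocallyOfFiniteType p›
  haveI := surjective_specMap_field K Ω (algebraMap K Ω)
  obtain ⟨zb, hzb⟩ := (pullback.fst q τK).surjective z
  let σ : kb →ₐ[k] Ω := IsAlgClosed.lift
  letI : Algebra kb Ω := σ.toRingHom.toAlgebra
  let τσ := Spec.map (CommRingCat.ofHom (algebraMap kb Ω))
  have hbase : τK ≫ Spec.map (CommRingCat.ofHom (algebraMap k K)) = τσ ≫ τ := by
    rw [← Spec.map_comp, ← Spec.map_comp, ← CommRingCat.ofHom_comp, ← CommRingCat.ofHom_comp,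
      ← IsScalarTower.algebraMap_eq]
    exact congrArg (fun f => Spec.map (CommRingCat.ofHom f)) σ.comp_algebraMap.symm
  have h1 := (IsPullback.of_hasPullback q τK).paste_horiz hsq
  rw [hbase] at h1
  have h2 := (IsPullback.of_hasPullback (pullback.snd p τ) τσ).paste_horiz (IsPullback.of_hasPullback p τ)
  let μ := (h1.isoIsPullback _ _ h2).hom
  have hμ2 : μ ≫ pullback.snd _ _ = pullback.snd q τK := IsPullback.isoIsPullback_hom_snd _ _ _ _
  have hμ1 : μ ≫ pullback.fst (pullback.snd p τ) τσ ≫ pullback.fst p τ = pullback.fst q τK ≫ i :=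
    IsPullback.isoIsPullback_hom_fst _ _ _ _
  have hx : pullback.fst p τ (pullback.fst (pullback.snd p τ) τσ (μ zb)) = i z := by
    rw [← hzb]
    exact congrArg (fun f => f zb) hμ1
  have hb := ((isNode_iff_odp p kb _ (i z) hx).1 h).2
  have hO := odp_pullback (pullback.snd p τ) (μ zb) hb
  have hm : μ ≫ pullback.snd (pullback.snd p τ) τσ = pullback.snd q τK ≫
      Spec.map (CommRingCat.ofHom (RingEquiv.refl Ω).toRingHom) := by
    rw [show CommRingCat.ofHom (RingEquiv.refl Ω).toRingHom = 𝟙 _ from rfl, Spec.map_id, Category.comp_id, hμ2]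
  exact (isNode_iff_odp q Ω zb z hzb).2 ⟨hz, (odp_iff (RingEquiv.refl Ω) _ _ μ hm zb).1 hO⟩

/-- At worst nodal singularities persist on extending the ground field. -/
theorem atWorstNodal_of_isPullback (hsq : IsPullback i q p (Spec.map (CommRingCat.ofHom (algebraMap k K))))
    (hdim : topologicalKrullDim X ≤ 1) (h : @Curv2.AtWorstNodal k _ X ⟨p⟩) :
    @Curv2.AtWorstNodal K _ Z ⟨q⟩ := by
  intro z hz
  by_cases hsm : ∃ U : X.Opens, i z ∈ U ∧ Smooth (U.ι ≫ p)
  · exact Or.inl (smooth_nhd_preimage hsq z hsm)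
  have hx : IsClosed ({i z} : Set X) := by
    by_contra hx
    haveI : IsLocallyNoetherian X := LocallyOfFiniteType.isLocallyNoetherian p
    haveI : LocallyOfFinitePresentation p := GrothLib.LocProp.locallyOfFinitePresentation_of_isLocallyNoetherian p
    haveI := geometricallyReduced_of_atWorstNodal p h
    exact hsm ((GrothLib.LocProp.smooth_nhd_iff p (i z)).2 (GrothLib.SepPts.mem_smoothLocus_of_maximal p
      fun w hw => maximal_of_not_isClosed hdim hx w hw))
  exact Or.inr (isNode_of_isPullback p hsq z hz ((h _ hx).resolve_left hsm))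

omit [Algebra k K] in
/-- Equidimensionality persists on extending the ground field. -/
theorem components_dim_of_isPullback {t : Spec (CommRingCat.of K) ⟶ Spec (CommRingCat.of k)}
    (hsq : IsPullback i q p t) (n : WithBot ℕ∞)
    (h : ∀ W ∈ irreducibleComponents (X : Type u), topologicalKrullDim W = n) :
    ∀ W ∈ irreducibleComponents (Z : Type u), topologicalKrullDim W = n := by
  obtain ⟨alg, rfl⟩ := GrothLib.CurveLocus.exists_algebra t
  let φ := Spec.map (CommRingCat.ofHom (algebraMap k K))
  let e : Z ≅ pullback φ p := hsq.flip.isoPullback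
  intro W hW
  have hW2 : e.hom '' W ∈ irreducibleComponents (pullback φ p : Scheme.{u}) := by
    refine ⟨hW.1.image _ e.hom.continuous.continuousOn, fun V hV hle x hx => ?_⟩
    have h1 : W ⊆ e.inv '' V := fun w hw => ⟨e.hom w, hle ⟨w, hw, rfl⟩, (congrArg (fun f => f w) e.hom_inv_id :)⟩
    obtain ⟨v, rfl⟩ := e.hom.homeomorph.surjective x
    refine ⟨v, ?_, rfl⟩
    refine hW.2 (hV.image _ e.inv.continuous.continuousOn) h1 ⟨_, hx, ?_⟩
    exact (congrArg (fun f => f v) e.hom_inv_id :)
  rw [show topologicalKrullDim W = topologicalKrullDim (e.hom '' W) from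
    IsHomeomorph.topologicalKrullDim_eq _ (e.hom.homeomorph.image W).isHomeomorph]
  let π := pullback.snd φ p
  obtain ⟨S, hS, hsub⟩ := exists_mem_irreducibleComponents_subset_of_isIrreducible (π '' (e.hom '' W))
    (hW2.1.image _ π.continuous.continuousOn)
  have hSc := isClosed_of_mem_irreducibleComponents S hS
  have hWS : e.hom '' W ⊆ π ⁻¹' S := fun x hx => hsub ⟨x, hx, rfl⟩
  have hW' : (Subtype.val ⁻¹' (e.hom '' W) : Set ↥(π ⁻¹' S)) ∈ irreducibleComponents ↥(π ⁻¹' S) := by
    have e1 : Subtype.val '' (Subtype.val ⁻¹' (e.hom '' W) : Set ↥(π ⁻¹' S)) = e.hom '' W := by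
      rw [Subtype.image_preimage_coe, Set.inter_eq_right.2 hWS]
    refine ⟨⟨?_, ?_⟩, fun V hV hle x hx => ?_⟩
    · obtain ⟨x, hx⟩ := hW2.1.nonempty
      exact ⟨⟨x, hWS hx⟩, hx⟩
    · exact GrothLib.CurveLocus.isPreirreducible_of_image Topology.IsEmbedding.subtypeVal.isInducing
        (by rw [e1]; exact hW2.1.2)
    · exact hW2.2 (hV.image Subtype.val continuous_subtype_val.continuousOn)
        (e1.symm.le.trans (Set.image_mono hle)) ⟨x, hx, rfl⟩
  rw [← (GrothLib.Dim.IsEmbedding.topologicalKrullDim_eq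
      (f := fun x : (Subtype.val ⁻¹' (e.hom '' W) : Set ↥(π ⁻¹' S)) => x.1.1)
      (IsEmbedding.subtypeVal.comp IsEmbedding.subtypeVal) (by
        ext y; exact ⟨fun ⟨x, hx⟩ => hx ▸ x.2, fun hy => ⟨⟨⟨y, hWS hy⟩, hy⟩, rfl⟩⟩) :
      topologicalKrullDim (Subtype.val ⁻¹' (e.hom '' W) : Set ↥(π ⁻¹' S)) = topologicalKrullDim (e.hom '' W)),
    GrothLib.Dim.topologicalKrullDim_component_preimage p hSc hS.1 _ hW']
  exact h S hS

omit [LocallyOfFiniteType p]

/-- Nodal families are stable under base change. -/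
theorem isNodalFamily_baseChange {X S S' : Scheme.{u}} (f : X ⟶ S) (hf : Curv2.IsNodalFamily f) (g : S' ⟶ S) :
    Curv2.IsNodalFamily (pullback.snd f g) := by
  haveI := hf.1
  haveI := hf.2.1
  refine ⟨inferInstance, inferInstance, fun s' => ?_⟩
  obtain ⟨i, -, hi⟩ := GrothLib.FibreBC.exists_isPullback_fiber (IsPullback.of_hasPullback f g) s'
  haveI : LocallyOfFiniteType (f.fiberToSpecResidueField (g s')) := locallyOfFiniteType_fiberTo f (g s')
  letI : Algebra (S.residueField (g s')) (S'.residueField s') := (g.residueFieldMap s').hom.toAlgebra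
  exact ⟨components_dim_of_isPullback (k := S.residueField (g s')) (K := S'.residueField s') _ hi 1
      (hf.2.2 (g s')).1,
    atWorstNodal_of_isPullback (k := S.residueField (g s')) (K := S'.residueField s') _ hi
      (GrothLib.CurveLocus.topologicalKrullDim_le_of_components 1 fun W hW => ((hf.2.2 (g s')).1 W hW).le)
      (hf.2.2 (g s')).2⟩

end GrothLib.NodeEt
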