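import Groth.Agent.Lib.NodeEt.Chart
import Groth.Agent.Lib.EtFibre.Basic

/-!
# Nodes in terms of the local ring
-/

set_option autoImplicit false
set_option linter.all false
set_option backward.isDefEq.respectTransparency false

universe u

open CategoryTheory Limits AlgebraicGeometry IsLocalRing TensorProduct

noncomputable section

namespace GrothLib.NodeEt

attribute [local instance] Algebra.TensorProduct.rightAlgebra
attribute [local instance] Curv2.resAlgebra

variable {k : Type u} [Field k] {X : Scheme.{u}} (sX : X ⟶ Spec (CommRingCat.of k)) [LocallyOfFiniteType sX]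
  (L : Type u) [Field L] [Algebra k L]

/-- The residue field of a closed point is the quotient at the point of a chart. -/
theorem Chart.isSeparable_iff {x : X} (C : Chart sX x) [C.pt.asIdeal.IsMaximal] :
    Algebra.IsSeparable k (C.R ⧸ C.pt.asIdeal) ↔
      @Algebra.IsSeparable k (X.residueField x) _ _ (@Curv2.resAlgebra k _ X ⟨sX⟩ x) := by
  letI : Algebra k (X.residueField x) := @Curv2.resAlgebra k _ X ⟨sX⟩ x
  obtain ⟨e, he⟩ := C.exists_equiv
  let φ : (C.R ⧸ C.pt.asIdeal) ≃+* X.residueField x :=
    (IsLocalization.AtPrime.equivQuotMaximalIdeal C.pt.asIdeal (Localization.AtPrime C.pt.asIdeal)).trans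
      (IsLocalRing.ResidueField.mapEquiv e)
  have hφ : RingHom.comp (algebraMap k (X.residueField x)) (RingEquiv.refl k : k →+* k) =
      RingHom.comp (φ : _ →+* _) (algebraMap k (C.R ⧸ C.pt.asIdeal)) := by
    ext c
    show (X.residue x).hom (@Curv2.stalkMap k _ X ⟨sX⟩ x c) = φ (Ideal.Quotient.mk _ (algebraMap k C.R c))
    rw [RingEquiv.trans_apply, IsLocalization.AtPrime.equivQuotMaximalIdeal_apply_mk]
    show _ = IsLocalRing.residue _ (e (algebraMap C.R _ (algebraMap k C.R c)))
    rw [← IsScalarTower.algebraMap_apply, he]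
    rfl
  constructor
  · intro h
    exact Algebra.IsSeparable.of_equiv_equiv (RingEquiv.refl k) φ hφ
  · intro h
    exact Algebra.IsSeparable.of_equiv_equiv (RingEquiv.refl k) φ.symm (RingHom.ext fun c => by
      have := RingHom.congr_fun hφ c
      simp only [RingHom.comp_apply, RingEquiv.coe_toRingHom, RingEquiv.refl_apply] at this ⊢
      rw [this, RingEquiv.symm_apply_apply])

/-- Stalks at closed points over an algebraically closed field have the field as residue field. -/
theorem exists_sub_mem_closed [IsAlgClosed L] (z : (pullback sX (Spec.map (CommRingCat.ofHom (algebraMap k L))) :))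
    (hz : IsClosed ({z} : Set (pullback sX (Spec.map (CommRingCat.ofHom (algebraMap k L))) :))) :
    letI := @Curv2.stalkAlgebra L _ _ ⟨pullback.snd sX (Spec.map (CommRingCat.ofHom (algebraMap k L)))⟩ z
    ∀ a : (pullback sX (Spec.map (CommRingCat.ofHom (algebraMap k L)))).presheaf.stalk z,
      ∃ t : L, algebraMap L _ t - a ∈ maximalIdeal _ := by
  intro a
  obtain ⟨C⟩ := exists_chart sX (pullback.fst sX (Spec.map (CommRingCat.ofHom (algebraMap k L))) z)
  obtain ⟨Q, hQ, -, ⟨e, he⟩, hmax, -⟩ := C.exists_prime L z rfl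
  haveI := hmax hz
  obtain ⟨t, ht⟩ := Point.exists_sub_mem_maximal C.R L Q (e.symm a)
  refine ⟨t, ?_⟩
  have h2 : e (algebraMap L _ t - e.symm a) ∈ maximalIdeal _ := by
    rw [IsLocalRing.mem_maximalIdeal] at ht ⊢
    exact fun hu => ht ((isUnit_map_iff e _).1 hu)
  rwa [map_sub, he, RingEquiv.apply_symm_apply] at h2

theorem odp_iff_nodeForm_stalk [IsAlgClosed L] (z : (pullback sX (Spec.map (CommRingCat.ofHom (algebraMap k L))) :))
    (hz : IsClosed ({z} : Set (pullback sX (Spec.map (CommRingCat.ofHom (algebraMap k L))) :))) :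
    Odp L (pullback.snd sX (Spec.map (CommRingCat.ofHom (algebraMap k L)))) z ↔
      NodeForm ((pullback sX (Spec.map (CommRingCat.ofHom (algebraMap k L)))).presheaf.stalk z) := by
  haveI : LocallyOfFiniteType (pullback.snd sX (Spec.map (CommRingCat.ofHom (algebraMap k L)))) :=
    MorphismProperty.pullback_snd _ _ inferInstance
  haveI : IsLocallyNoetherian (pullback sX (Spec.map (CommRingCat.ofHom (algebraMap k L)))) :=
    LocallyOfFiniteType.isLocallyNoetherian (pullback.snd sX (Spec.map (CommRingCat.ofHom (algebraMap k L))))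
  letI := @Curv2.stalkAlgebra L _ _ ⟨pullback.snd sX (Spec.map (CommRingCat.ofHom (algebraMap k L)))⟩ z
  exact isOrdDoublePt_iff_nodeForm (exists_sub_mem_closed sX L z hz)

/-- An ordinary double point of a base change gives a node form below. -/
theorem nodeForm_of_odp [IsAlgClosed L] (z : (pullback sX (Spec.map (CommRingCat.ofHom (algebraMap k L))) :))
    (hz : IsClosed ({z} : Set (pullback sX (Spec.map (CommRingCat.ofHom (algebraMap k L))) :)))
    (h : Odp L (pullback.snd sX (Spec.map (CommRingCat.ofHom (algebraMap k L)))) z) :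
    NodeForm (X.presheaf.stalk (pullback.fst sX (Spec.map (CommRingCat.ofHom (algebraMap k L))) z)) := by
  obtain ⟨C⟩ := exists_chart sX (pullback.fst sX (Spec.map (CommRingCat.ofHom (algebraMap k L))) z)
  obtain ⟨Q, hQ, hp, ⟨e, -⟩, hmax, -⟩ := C.exists_prime L z rfl
  obtain ⟨e', -⟩ := C.exists_equiv
  haveI := hmax hz
  exact (Point.nodeForm_down C.R L _ Q hp (((odp_iff_nodeForm_stalk sX L z hz).1 h).of_ringEquiv e.symm)).of_ringEquiv e'

/-- Node forms at separable closed points give ordinary double points. -/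
theorem odp_of_nodeForm [IsAlgClosed L] (z : (pullback sX (Spec.map (CommRingCat.ofHom (algebraMap k L))) :))
    (hx : IsClosed ({pullback.fst sX (Spec.map (CommRingCat.ofHom (algebraMap k L))) z} : Set X))
    (hsep : @Algebra.IsSeparable k (X.residueField (pullback.fst sX (Spec.map (CommRingCat.ofHom (algebraMap k L))) z))
      _ _ (@Curv2.resAlgebra k _ X ⟨sX⟩ _))
    (h : NodeForm (X.presheaf.stalk (pullback.fst sX (Spec.map (CommRingCat.ofHom (algebraMap k L))) z))) :
    IsClosed ({z} : Set (pullback sX (Spec.map (CommRingCat.ofHom (algebraMap k L))) :)) ∧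
      Odp L (pullback.snd sX (Spec.map (CommRingCat.ofHom (algebraMap k L)))) z := by
  obtain ⟨C⟩ := exists_chart sX (pullback.fst sX (Spec.map (CommRingCat.ofHom (algebraMap k L))) z)
  haveI := C.isMaximal hx
  haveI := (C.isSeparable_iff sX).2 hsep
  obtain ⟨Q, hQ, hp, ⟨e, -⟩, -, hclosed⟩ := C.exists_prime L z rfl
  obtain ⟨e', -⟩ := C.exists_equiv
  have hzc := hclosed hx (Point.separable_point C.R L _ Q hp).1
  exact ⟨hzc, (odp_iff_nodeForm_stalk sX L z hzc).2 ((Point.nodeForm_up C.R L _ Q hp (h.of_ringEquiv e'.symm)).of_ringEquiv e)⟩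

include sX in
/-- A point with node form on a curve is closed. -/
theorem isClosed_of_nodeForm (hdim : topologicalKrullDim X ≤ 1) (x : X) (h : NodeForm (X.presheaf.stalk x)) :
    IsClosed ({x} : Set X) := by
  haveI : IsLocallyNoetherian X := LocallyOfFiniteType.isLocallyNoetherian sX
  set A := X.presheaf.stalk x
  obtain ⟨P, hP, hne⟩ : ∃ P : Ideal A, P.IsPrime ∧ P ≠ maximalIdeal A := by
    by_contra hcon
    simp only [not_exists, not_and, not_not] at hcon
    have hnil : maximalIdeal A ≤ nilradical A := by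
      rw [nilradical_eq_sInf]
      exact le_sInf fun P hP => (hcon P hP).ge
    obtain ⟨n, hn⟩ := Ideal.exists_pow_le_of_le_radical_of_fg (I := maximalIdeal A) (J := (⊥ : Ideal A))
      hnil (IsNoetherian.noetherian _)
    have h1 : ∀ t, maximalIdeal A ^ (n + t) = ⊥ := fun t => by
      rw [pow_add, le_bot_iff.1 hn, Ideal.bot_mul]
    have h2 : lev A (n + 1) = lev A (n + 2) := by unfold lev; rw [h1, h1]
    rw [h.1, h.1, Nat.cast_inj] at h2
    omega
  set y := X.fromSpecStalk x ⟨P, hP⟩ with hy
  have hyx : y ⤳ x := by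
    have : y ∈ Set.range (X.fromSpecStalk x) := ⟨_, rfl⟩
    rwa [Scheme.range_fromSpecStalk] at this
  have hyne : y ≠ x := fun he => hne (congrArg PrimeSpectrum.asIdeal
    ((X.fromSpecStalk x).isEmbedding.injective (he.trans Scheme.fromSpecStalk_closedPoint.symm)))
  refine isClosed_of_closure_subset fun w hw => ?_
  by_contra hwx
  have hxw : x ⤳ w := specializes_iff_mem_closure.mpr hw
  have hwx' : w ≠ x := hwx
  letI := specializationOrder X
  have hlt1 : w < x := lt_of_le_of_ne (show w ≤ x from hxw) hwx'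
  have hlt2 : x < y := lt_of_le_of_ne (show x ≤ y from hyx) hyne.symm
  let s : LTSeries X := ((RelSeries.singleton _ w).snoc x hlt1).snoc y (by simpa using hlt2)
  have h3 := Order.LTSeries.length_le_krullDim s
  rw [← GrothLib.EtFibre.topologicalKrullDim_eq_krullDim] at h3
  have h4 := h3.trans hdim
  simp [s] at h4

/-- Nodes in terms of the local ring. -/
theorem isNode_iff_nodeForm (x : X) :
    @Curv2.IsNode k _ X ⟨sX⟩ x ↔ IsClosed ({x} : Set X) ∧
      @Algebra.IsSeparable k (X.residueField x) _ _ (@Curv2.resAlgebra k _ X ⟨sX⟩ x) ∧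
      NodeForm (X.presheaf.stalk x) := by
  let K := AlgebraicClosure k
  constructor
  · intro h
    have hx := h.1
    obtain ⟨xb, hxb, hodp⟩ := h.2
    have hnf : NodeForm (X.presheaf.stalk x) := by
      have := nodeForm_of_odp sX K xb (isClosed_singleton_bc sX K xb (by erw [hxb]; exact hx)) hodp
      erw [hxb] at this
      exact this
    obtain ⟨C⟩ := exists_chart sX x
    haveI := C.isMaximal hx
    refine ⟨hx, (C.isSeparable_iff sX).1 (Point.isSeparable_of_nodeForm C.R K _ fun Q hQmax hQ => ?_), hnf⟩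
    obtain ⟨m, hm, hsnd, hiff, -⟩ := C.exists_point K
    haveI := hm
    let q : PrimeSpectrum (K ⊗[k] C.R) := ⟨Q, hQmax.isPrime⟩
    have hfst := (hiff q).2 hQ
    obtain ⟨e, -⟩ := exists_stalk_equiv _ (K ⊗[k] C.R) m hsnd q
    have hzc := isClosed_singleton_bc sX K (m q) (by rw [hfst]; exact hx)
    exact ((odp_iff_nodeForm_stalk sX K (m q) hzc).1
      ((isNode_iff_odp sX K (m q) x hfst).1 h).2).of_ringEquiv e.symm
  · rintro ⟨hx, hsep, h⟩
    haveI := surjective_specMap_field k K (algebraMap k K)
    obtain ⟨xb, rfl⟩ := (pullback.fst sX (Spec.map (CommRingCat.ofHom (algebraMap k K)))).surjective x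
    exact (isNode_iff_odp sX K xb _ rfl).2 ⟨hx, (odp_of_nodeForm sX K xb hx hsep h).2⟩

end GrothLib.NodeEt

section

open CategoryTheory Limits AlgebraicGeometry IsLocalRing

namespace GrothLib.NodeEt

attribute [local instance] Curv2.resAlgebra

theorem finite_residueField {k : Type u} [Field k] {X : Scheme.{u}} (sX : X ⟶ Spec (CommRingCat.of k))
    [LocallyOfFiniteType sX] {x : X} (C : Chart sX x) [C.pt.asIdeal.IsMaximal] :
    @Module.Finite k (X.residueField x) _ _ (@Algebra.toModule _ _ _ _ (@Curv2.resAlgebra k _ X ⟨sX⟩ x)) := by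
  letI : Algebra k (X.residueField x) := @Curv2.resAlgebra k _ X ⟨sX⟩ x
  letI := Ideal.Quotient.field C.pt.asIdeal
  haveI : Module.Finite k (C.R ⧸ C.pt.asIdeal) := finite_of_finite_type_of_isJacobsonRing k _
  obtain ⟨e, he⟩ := C.exists_equiv
  let φ : (C.R ⧸ C.pt.asIdeal) ≃+* X.residueField x :=
    (IsLocalization.AtPrime.equivQuotMaximalIdeal C.pt.asIdeal (Localization.AtPrime C.pt.asIdeal)).trans
      (IsLocalRing.ResidueField.mapEquiv e)
  let φ' : (C.R ⧸ C.pt.asIdeal) ≃ₐ[k] X.residueField x := AlgEquiv.ofRingEquiv (f := φ) (fun c => by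
    show φ (Ideal.Quotient.mk _ (algebraMap k C.R c)) = (X.residue x).hom (@Curv2.stalkMap k _ X ⟨sX⟩ x c)
    rw [RingEquiv.trans_apply, IsLocalization.AtPrime.equivQuotMaximalIdeal_apply_mk]
    show IsLocalRing.residue _ (e (algebraMap C.R _ (algebraMap k C.R c))) = _
    rw [← IsScalarTower.algebraMap_apply, he]
    rfl)
  exact Module.Finite.equiv φ'.toLinearEquiv

end GrothLib.NodeEt

end
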