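import Groth.Agent.Lib.NodeEt.Quad
import Groth.Agent.Lib.GorFlat.Main
import Groth.Agent.Lib.GorFlat.Rings
import Groth.Agent.Lib.Gor.Localization
import Groth.Agent.Lib.GrpSchField.SmoothRegular
import Groth.Agent.Lib.CycDiv.Stalk

/-!
# At-worst-nodal schemes are Gorenstein
-/

set_option autoImplicit false
set_option linter.all false
set_option backward.isDefEq.respectTransparency false

universe u

open CategoryTheory Limits AlgebraicGeometry IsLocalRing

noncomputable section

namespace GrothLib.NodeEt

theorem gorenstein_standard {κ : Type u} [Field κ] (a b c : κ) (hd : b ^ 2 - 4 * a * c ≠ 0) :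
    LocCoh.IsGorensteinLocalRing (MvPowerSeries (Fin 2) κ ⧸ Ideal.span {quadSeries κ a b c}) := by
  have hne : quadSeries κ a b c ≠ 0 := by
    intro h0
    have e : (MvPowerSeries (Fin 2) κ ⧸ Ideal.span {quadSeries κ a b c}) ≃+* MvPowerSeries (Fin 2) κ :=
      (Ideal.quotEquivOfEq (by rw [h0, Ideal.span_singleton_eq_bot])).trans (RingEquiv.quotientBot _)
    have h := ((nodeForm_standard a b c hd).of_ringEquiv e).1 3
    rw [lev_powerSeries, Nat.cast_inj] at h
    exact absurd h (by decide)
  refine (GrothLib.GorFlat.gorenstein_quot_iff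
    (Ideal.pow_le_self two_ne_zero (quadSeries_mem a b c)) ?_).2 (GrothLib.GorFlat.gorenstein_of_isRegularLocalRing _)
  exact fun x y hxy => mul_left_cancel₀ hne hxy

theorem gorenstein_of_nodeForm {k : Type u} [Field k] {A : Type u} [CommRing A] [IsLocalRing A] [IsNoetherianRing A]
    [Algebra k A] [Module.Finite k (ResidueField A)] [Algebra.IsSeparable k (ResidueField A)] (h : NodeForm A) :
    LocCoh.IsGorensteinLocalRing A := by
  obtain ⟨a, b, c, hd, e, -⟩ := exists_completion_equiv (k := k) h
  have hS := (GrothLib.GorFlat.gorenstein_congr e).2 (gorenstein_standard a b c hd)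
  haveI : Module.Flat A (AdicCompletion (maximalIdeal A) A) := AdicCompletion.flat_of_isNoetherian _
  haveI : IsLocalHom (algebraMap A (AdicCompletion (maximalIdeal A) A)) :=
    isLocalHom_of_map AdicCompletion.maximalIdeal_eq_map.symm
  exact ((GrothLib.GorFlat.gorenstein_flat_local_iff A (AdicCompletion (maximalIdeal A) A)).1 hS).1

theorem gorenstein_stalk {k : Type u} [Field k] {X : Scheme.{u}} (sX : X ⟶ Spec (CommRingCat.of k))
    [LocallyOfFiniteType sX] (h : @Curv2.AtWorstNodal k _ X ⟨sX⟩) (η : X) :
    LocCoh.IsGorensteinLocalRing (X.presheaf.stalk η) := by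
  haveI : IsLocallyNoetherian X := LocallyOfFiniteType.isLocallyNoetherian sX
  haveI : JacobsonSpace X := LocallyOfFiniteType.jacobsonSpace sX
  obtain ⟨x, hηx, hx⟩ := nonempty_inter_closedPoints (Z := closure {η}) ⟨η, subset_closure rfl⟩
    isClosed_closure.isLocallyClosed
  have key : LocCoh.IsGorensteinLocalRing (X.presheaf.stalk x) := by
    rcases h x hx with ⟨U, hxU, hU⟩ | hnode
    · haveI : Smooth (U.ι ≫ sX) := hU
      have hc : IsClosed ({⟨x, hxU⟩} : Set U.toScheme) := by
        have : ({⟨x, hxU⟩} : Set U.toScheme) = U.ι ⁻¹' {x} := by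
          ext w
          exact ⟨fun h => congrArg Subtype.val h, fun h => Subtype.ext h⟩
        rw [this]
        exact hx.preimage U.ι.continuous
      haveI := GrothLib.GrpSchField.isRegularLocalRing_stalk_of_smooth (U.ι ≫ sX) hc
      exact (GrothLib.GorFlat.gorenstein_congr (U.stalkIso ⟨x, hxU⟩).commRingCatIsoToRingEquiv).1
        (GrothLib.GorFlat.gorenstein_of_isRegularLocalRing _)
    · obtain ⟨-, hsep, hnf⟩ := (isNode_iff_nodeForm sX x).1 hnode
      obtain ⟨C⟩ := exists_chart sX x
      haveI := C.isMaximal hx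
      letI := @Curv2.stalkAlgebra k _ X ⟨sX⟩ x
      letI := @Curv2.resAlgebra k _ X ⟨sX⟩ x
      haveI : Module.Finite k (IsLocalRing.ResidueField (X.presheaf.stalk x)) := finite_residueField sX C
      haveI : Algebra.IsSeparable k (IsLocalRing.ResidueField (X.presheaf.stalk x)) := hsep
      exact gorenstein_of_nodeForm (k := k) hnf
  have hs : η ⤳ x := specializes_iff_mem_closure.mpr hηx
  letI := (X.presheaf.stalkSpecializes hs).hom.toAlgebra
  haveI := GrothLib.CycDiv.isLocalization_stalkSpecializes hs
  haveI := key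
  obtain ⟨n, hn⟩ := key.exists_hasInjectiveDimensionLT
  have := GrothLib.Gor.isGorensteinLocalRing_localization (GrothLib.CycDiv.primeOf hs) hn
  exact (GrothLib.GorFlat.gorenstein_congr
    (IsLocalization.algEquiv (GrothLib.CycDiv.primeOf hs).primeCompl (Localization.AtPrime (GrothLib.CycDiv.primeOf hs))
      (X.presheaf.stalk η)).toRingEquiv).1 this

end GrothLib.NodeEt
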