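import Groth.Agent.Lib.NodeEt.Basic
import Groth.Agent.Lib.EtFibre.Basic
import Groth.Agent.Lib.Japanese.IntegralSpec

/-!
# Nodes and étale morphisms
-/

set_option autoImplicit false
set_option linter.all false
set_option backward.isDefEq.respectTransparency false

universe u

open CategoryTheory Limits AlgebraicGeometry IsLocalRing

noncomputable section

namespace GrothLib.NodeEt

theorem surjective_specMap_field (K L : Type u) [Field K] [Field L] (i : K →+* L) :
    Surjective (Spec.map (CommRingCat.ofHom i)) :=
  ⟨fun _ => ⟨closedPoint L, Subsingleton.elim _ _⟩⟩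

theorem etale_specMap_separable (k k' : Type u) [Field k] [Field k'] [Algebra k k'] [Module.Finite k k']
    [Algebra.IsSeparable k k'] : Etale (Spec.map (CommRingCat.ofHom (algebraMap k k'))) := by
  haveI : Algebra.FormallyEtale k k' := Algebra.FormallyEtale.of_isSeparable _ _
  haveI : Algebra.FinitePresentation k k' := Algebra.FinitePresentation.of_finiteType.mp inferInstance
  haveI : Algebra.Etale k k' := ⟨inferInstance, inferInstance⟩
  exact (HasRingHomProperty.Spec_iff (P := @Etale)).mpr (RingHom.etale_algebraMap.mpr this)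

/-- Closed points and étale maps of schemes of finite type over a field. -/
theorem isClosed_singleton_iff_of_etale {k : Type u} [Field k] {Z Z' : Scheme.{u}}
    (s : Z ⟶ Spec (CommRingCat.of k)) [LocallyOfFiniteType s] (φ : Z' ⟶ Z) [Etale φ] (z : Z') :
    IsClosed ({z} : Set Z') ↔ IsClosed ({φ z} : Set Z) := by
  haveI : JacobsonSpace Z := LocallyOfFiniteType.jacobsonSpace s
  refine ⟨fun h => φ.closePoints_subset_preimage_closedPoints h, fun h => ?_⟩
  haveI := GrothLib.EtBasicB.locallyQuasiFinite_of_unramified φ
  refine isClosed_of_closure_subset fun w hw => ?_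
  have hs : z ⤳ w := specializes_iff_mem_closure.mpr hw
  have he : φ w = φ z := (hs.map φ.continuous).mem_closed h rfl
  exact (GrothLib.EtFibre.eq_of_specializes_of_discrete φ z w hs he.symm).symm

variable {k : Type u} [Field k] {X : Scheme.{u}} (sX : X ⟶ Spec (CommRingCat.of k))

/-- Points over closed points of an algebraic base change are closed. -/
theorem isClosed_singleton_bc (K : Type u) [Field K] [Algebra k K] [Algebra.IsAlgebraic k K]
    (xb : (pullback sX (Spec.map (CommRingCat.ofHom (algebraMap k K))) :))
    (hx : IsClosed ({pullback.fst sX (Spec.map (CommRingCat.ofHom (algebraMap k K))) xb} : Set X)) :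
    IsClosed ({xb} : Set (pullback sX (Spec.map (CommRingCat.ofHom (algebraMap k K))) :)) := by
  haveI : IsIntegralHom (Spec.map (CommRingCat.ofHom (algebraMap k K))) :=
    IsIntegralHom.SpecMap_iff.mpr (Algebra.IsIntegral.isIntegral (R := k) (A := K))
  set a := pullback.fst sX (Spec.map (CommRingCat.ofHom (algebraMap k K)))
  refine isClosed_of_closure_subset fun w hw => ?_
  have hs : xb ⤳ w := specializes_iff_mem_closure.mpr hw
  have he : a w = a xb := (hs.map a.continuous).mem_closed hx rfl
  exact (GrothLib.Japanese.eq_of_specializes_of_isIntegralHom a hs he.symm).symm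

/-- Whether a point over a closed point of `X` in an algebraically closed algebraic base change is
an ordinary double point depends only on the point of `X`. -/
theorem odp_iff_odp [LocallyOfFiniteType sX] (K K' : Type u) [Field K] [Field K'] [Algebra k K] [Algebra k K']
    [IsAlgClosed K] [IsAlgClosed K'] [Algebra.IsAlgebraic k K] [Algebra.IsAlgebraic k K']
    (xb : (pullback sX (Spec.map (CommRingCat.ofHom (algebraMap k K))) :))
    (xb' : (pullback sX (Spec.map (CommRingCat.ofHom (algebraMap k K'))) :))
    (h : pullback.fst sX (Spec.map (CommRingCat.ofHom (algebraMap k K))) xb =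
      pullback.fst sX (Spec.map (CommRingCat.ofHom (algebraMap k K'))) xb')
    (hx : IsClosed ({pullback.fst sX (Spec.map (CommRingCat.ofHom (algebraMap k K))) xb} : Set X)) :
    Odp K (pullback.snd _ _) xb ↔ Odp K' (pullback.snd _ _) xb' := by
  have hc := isClosed_singleton_bc sX K xb hx
  have hc' := isClosed_singleton_bc sX K' xb' (h ▸ hx)
  set P := pointOfClosedPoint (pullback.snd sX (Spec.map (CommRingCat.ofHom (algebraMap k K)))) xb hc with hP
  set P' := pointOfClosedPoint (pullback.snd sX (Spec.map (CommRingCat.ofHom (algebraMap k K')))) xb' hc'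
    with hP'
  obtain ⟨⟨x, r⟩, hr⟩ := (Scheme.SpecToEquivOfField K X).symm.surjective (P ≫ pullback.fst _ _)
  obtain ⟨⟨x', r'⟩, hr'⟩ := (Scheme.SpecToEquivOfField K' X).symm.surjective (P' ≫ pullback.fst _ _)
  change Spec.map r ≫ X.fromSpecResidueField x = _ at hr
  change Spec.map r' ≫ X.fromSpecResidueField x' = _ at hr'
  have hxx : x = x' := by
    have e1 := congr($hr (closedPoint K))
    have e2 := congr($hr' (closedPoint K'))
    simp only [Scheme.Hom.comp_apply, Scheme.fromSpecResidueField_apply, hP, hP',
      pointOfClosedPoint_apply] at e1 e2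
    rw [e1, e2, h]
  subst hxx
  let i : CommRingCat.of k ⟶ X.residueField x := Spec.preimage (X.fromSpecResidueField x ≫ sX)
  have hi : ∀ (L : Type u) [Field L] [Algebra k L]
      (Q : Spec (CommRingCat.of L) ⟶ pullback sX (Spec.map (CommRingCat.ofHom (algebraMap k L))))
      (r : X.residueField x ⟶ CommRingCat.of L), Q ≫ pullback.snd _ _ = 𝟙 _ →
      Spec.map r ≫ X.fromSpecResidueField x = Q ≫ pullback.fst _ _ →
      i ≫ r = CommRingCat.ofHom (algebraMap k L) := by
    intro L _ _ Q r hQ hr
    apply Spec.map_injective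
    rw [Spec.map_comp, Spec.map_preimage, ← Category.assoc, hr, Category.assoc, pullback.condition,
      ← Category.assoc, hQ, Category.id_comp]
  have hi1 := hi K P r (pointOfClosedPoint_comp _ _ _) hr
  have hi2 := hi K' P' r' (pointOfClosedPoint_comp _ _ _) hr'
  letI : Algebra k (X.residueField x) := i.hom.toAlgebra
  letI : Algebra (X.residueField x) K := r.hom.toAlgebra
  letI : Algebra (X.residueField x) K' := r'.hom.toAlgebra
  haveI : IsScalarTower k (X.residueField x) K :=
    IsScalarTower.of_algebraMap_eq fun c => congr($(hi1.symm) c)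
  haveI : IsScalarTower k (X.residueField x) K' :=
    IsScalarTower.of_algebraMap_eq fun c => congr($(hi2.symm) c)
  haveI : Algebra.IsAlgebraic (X.residueField x) K := Algebra.IsAlgebraic.tower_top (K := k) _
  haveI : Algebra.IsAlgebraic (X.residueField x) K' := Algebra.IsAlgebraic.tower_top (K := k) _
  haveI : IsAlgClosure (X.residueField x) K := ⟨inferInstance, inferInstance⟩
  haveI : IsAlgClosure (X.residueField x) K' := ⟨inferInstance, inferInstance⟩
  let σ := IsAlgClosure.equiv (X.residueField x) K K'
  have hσ : CommRingCat.ofHom (algebraMap k K) ≫ CommRingCat.ofHom σ.toRingEquiv.toRingHom =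
      CommRingCat.ofHom (algebraMap k K') := by
    ext c
    show σ (algebraMap k K c) = algebraMap k K' c
    rw [IsScalarTower.algebraMap_apply k (X.residueField x) K, σ.commutes,
      ← IsScalarTower.algebraMap_apply]
  have hσr : r ≫ CommRingCat.ofHom σ.toRingEquiv.toRingHom = r' := by
    ext c
    exact σ.commutes c
  let S := Spec.map (CommRingCat.ofHom σ.toRingEquiv.toRingHom)
  haveI : IsIso (CommRingCat.ofHom σ.toRingEquiv.toRingHom) :=
    (inferInstance : IsIso σ.toRingEquiv.toCommRingCatIso.hom)
  let μ := pullback.map sX (Spec.map (CommRingCat.ofHom (algebraMap k K'))) sX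
    (Spec.map (CommRingCat.ofHom (algebraMap k K))) (𝟙 X) S (𝟙 _) (by simp)
    (by rw [Category.comp_id, ← Spec.map_comp, hσ])
  have hμ2 : μ ≫ pullback.snd sX (Spec.map (CommRingCat.ofHom (algebraMap k K))) = pullback.snd _ _ ≫ S := by
    simp [μ]
  have hPP : P' ≫ μ = S ≫ P := by
    apply pullback.hom_ext
    · rw [Category.assoc, Category.assoc, ← hr, show μ ≫ pullback.fst _ _ = pullback.fst _ _ ≫ 𝟙 X from
        pullback.lift_fst _ _ _, Category.comp_id, ← hr', ← Category.assoc, ← Spec.map_comp, hσr]
    · rw [Category.assoc, Category.assoc, hμ2, hP', pointOfClosedPoint_comp_assoc, hP,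
        pointOfClosedPoint_comp, Category.comp_id]
  have hμx : μ xb' = xb := by
    have e1 := congr($hPP (closedPoint K'))
    simp only [Scheme.Hom.comp_apply, hP, hP', pointOfClosedPoint_apply] at e1
    rw [e1]
  rw [← hμx]
  exact odp_iff σ.toRingEquiv _ _ μ hμ2 xb'

/-- A node can be detected in any algebraically closed algebraic base change, at any point over it. -/
theorem isNode_iff_odp [LocallyOfFiniteType sX] (K : Type u) [Field K] [Algebra k K] [IsAlgClosed K]
    [Algebra.IsAlgebraic k K] (xb : (pullback sX (Spec.map (CommRingCat.ofHom (algebraMap k K))) :))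
    (x : X) (hxb : pullback.fst sX (Spec.map (CommRingCat.ofHom (algebraMap k K))) xb = x) :
    @Curv2.IsNode k _ X ⟨sX⟩ x ↔ IsClosed ({x} : Set X) ∧ Odp K (pullback.snd _ _) xb := by
  refine and_congr_right fun hx => ⟨?_, fun h => ?_⟩
  · rintro ⟨xc, hxc, h⟩
    exact (odp_iff_odp sX (AlgebraicClosure k) K xc xb (hxc.trans hxb.symm)
      (by erw [hxc]; exact hx)).1 h
  · haveI := surjective_specMap_field k (AlgebraicClosure k) (algebraMap k (AlgebraicClosure k))
    obtain ⟨xc, hxc⟩ :=
      (pullback.fst sX (Spec.map (CommRingCat.ofHom (algebraMap k (AlgebraicClosure k))))).surjective x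
    exact ⟨xc, hxc, (odp_iff_odp sX (AlgebraicClosure k) K xc xb (hxc.trans hxb.symm)
      (by rw [hxc]; exact hx)).2 h⟩

/-- Nodes are insensitive to étale maps, also along a finite separable extension of the base field. -/
theorem isNode_iff_of_etale {k' : Type u} [Field k'] [Algebra k k'] [Module.Finite k k']
    [Algebra.IsSeparable k k'] [LocallyOfFiniteType sX] {Z' : Scheme.{u}}
    (sZ : Z' ⟶ Spec (CommRingCat.of k')) (φ : Z' ⟶ X) [Etale φ]
    (comm : φ ≫ sX = sZ ≫ Spec.map (CommRingCat.ofHom (algebraMap k k'))) (z : Z') :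
    @Curv2.IsNode k' _ Z' ⟨sZ⟩ z ↔ @Curv2.IsNode k _ X ⟨sX⟩ (φ z) := by
  let K := AlgebraicClosure k'
  haveI : Algebra.IsAlgebraic k k' := inferInstance
  haveI : Algebra.IsAlgebraic k K := Algebra.IsAlgebraic.trans k k' K
  let i := Spec.map (CommRingCat.ofHom (algebraMap k k'))
  let a := Spec.map (CommRingCat.ofHom (algebraMap k' K))
  haveI : Etale i := etale_specMap_separable k k'
  haveI : LocallyOfFiniteType sZ := by
    haveI : LocallyOfFiniteType (sZ ≫ i) := by rw [← comm]; infer_instance
    exact locallyOfFiniteType_of_comp sZ i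
  haveI := surjective_specMap_field k' K (algebraMap k' K)
  obtain ⟨zb, hzb⟩ := (pullback.fst sZ a).surjective z
  have hb : a ≫ i = Spec.map (CommRingCat.ofHom (algebraMap k K)) := by
    rw [← Spec.map_comp, ← CommRingCat.ofHom_comp, ← IsScalarTower.algebraMap_eq]
  haveI : IsOpenImmersion (pullback.mapDesc sZ a i) :=
    MorphismProperty.of_isPullback (pullback_map_diagonal_isPullback sZ a i) inferInstance
  let m : pullback (sZ ≫ i) (a ≫ i) ⟶ pullback sX (Spec.map (CommRingCat.ofHom (algebraMap k K))) :=
    pullback.map (sZ ≫ i) (a ≫ i) sX _ φ (𝟙 _) (𝟙 _) (by rw [Category.comp_id]; exact comm.symm)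
      (by rw [Category.comp_id, Category.id_comp, hb])
  haveI : Etale m := MorphismProperty.pullbackMap (P := @Etale) ‹Etale φ› inferInstance comm.symm
    (by rw [Category.id_comp, hb])
  let μ := pullback.mapDesc sZ a i ≫ m
  have hμ : μ ≫ pullback.snd _ _ = pullback.snd sZ a ≫
      Spec.map (CommRingCat.ofHom (RingEquiv.refl K).toRingHom) := by
    rw [show CommRingCat.ofHom (RingEquiv.refl K).toRingHom = 𝟙 _ from rfl, Spec.map_id, Category.comp_id]
    simp [μ, m]
  have hμ1 : pullback.fst sX (Spec.map (CommRingCat.ofHom (algebraMap k K))) (μ zb) = φ z := by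
    have : μ ≫ pullback.fst _ _ = pullback.fst sZ a ≫ φ := by simp [μ, m]
    rw [← Scheme.Hom.comp_apply, this, Scheme.Hom.comp_apply, hzb]
  rw [isNode_iff_odp sZ K zb z hzb, isNode_iff_odp sX K (μ zb) (φ z) hμ1,
    isClosed_singleton_iff_of_etale sX φ z, odp_iff (RingEquiv.refl K) _ _ μ hμ zb]

end GrothLib.NodeEt
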