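import Groth.Agent.Lib.NodeEt.Ext
import Groth.Agent.Lib.NodeEt.Node
import Groth.Agent.Lib.AlgMisc.GeomRedAt

/-!
# Ordinary double points of a base change to a larger algebraically closed field
-/

set_option autoImplicit false
set_option linter.style.haveILetI false
set_option backward.isDefEq.respectTransparency false

universe u

open CategoryTheory Limits AlgebraicGeometry IsLocalRing
open scoped TensorProduct

noncomputable section

namespace GrothLib.NodeEt

section Alg

variable {K Ω : Type u} [Field K] [Field Ω] [Algebra K Ω]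
variable {A : Type u} [CommRing A] [Algebra K A] [IsLocalRing A] [IsNoetherianRing A]

/-- The local ring of `A ⊗ Ω` over an ordinary double point is an ordinary double point. -/
theorem odp_localization (h : Curv2.IsOrdDoublePt K A) (P : Ideal (A ⊗[K] Ω)) [P.IsPrime]
    (hP : P.comap (algebraMap A (A ⊗[K] Ω)) = maximalIdeal A)
    (C : Type u) [CommRing C] [IsLocalRing C] [IsNoetherianRing C] [Algebra (A ⊗[K] Ω) C]
    [IsLocalization.AtPrime C P] [Algebra Ω C]
    (hΩ : ∀ c : Ω, algebraMap Ω C c = algebraMap (A ⊗[K] Ω) C ((1 : A) ⊗ₜ c)) :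
    Curv2.IsOrdDoublePt Ω C := by
  let I := (maximalIdeal A).map (algebraMap A (A ⊗[K] Ω))
  have hI : I ≤ P := Ideal.map_le_iff_le_comap.2 hP.ge
  have hconst : ∀ z : A ⊗[K] Ω, ∃ c : Ω, z - (1 : A) ⊗ₜ c ∈ I := by
    intro z
    induction z using TensorProduct.induction_on with
    | zero => exact ⟨0, by simp⟩
    | tmul a c =>
      obtain ⟨r, hr⟩ := exists_sub_mem_of_odp h a
      refine ⟨r • c, ?_⟩
      have hr' : a - algebraMap K A r ∈ maximalIdeal A := by simpa using neg_mem hr
      rw [← TensorProduct.smul_tmul, ← Algebra.algebraMap_eq_smul_one, ← TensorProduct.sub_tmul,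
        show (a - algebraMap K A r) ⊗ₜ[K] c = ((1 : A) ⊗ₜ c) * ((a - algebraMap K A r) ⊗ₜ (1 : Ω)) by simp]
      exact Ideal.mul_mem_left _ _ (Ideal.mem_map_of_mem _ hr')
    | add y z hy hz =>
      obtain ⟨a, ha⟩ := hy
      obtain ⟨b, hb⟩ := hz
      exact ⟨a + b, by rw [TensorProduct.tmul_add, add_sub_add_comm]; exact add_mem ha hb⟩
  have hunit : ∀ c : Ω, c ≠ 0 → (1 : A) ⊗ₜ[K] c ∉ P := fun c hc hm =>
    ‹P.IsPrime›.ne_top (P.eq_top_of_isUnit_mem hm
      ((isUnit_iff_ne_zero.2 hc).map (Algebra.TensorProduct.includeRight : Ω →ₐ[K] A ⊗[K] Ω)))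
  have hPI : P = I := by
    refine le_antisymm (fun z hz => ?_) hI
    obtain ⟨c, hc⟩ := hconst z
    by_cases hc0 : c = 0
    · simpa [hc0] using hc
    · exact absurd (by simpa using sub_mem hz (hI hc)) (hunit c hc0)
  letI : Algebra A C := ((algebraMap (A ⊗[K] Ω) C).comp (algebraMap A (A ⊗[K] Ω))).toAlgebra
  haveI : IsScalarTower A (A ⊗[K] Ω) C := IsScalarTower.of_algebraMap_eq fun _ => rfl
  have hmax : P.map (algebraMap (A ⊗[K] Ω) C) = maximalIdeal C :=
    IsLocalization.AtPrime.map_eq_maximalIdeal P C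
  have hm : maximalIdeal C = (maximalIdeal A).map (algebraMap A C) := by
    rw [← hmax, hPI, IsScalarTower.algebraMap_eq A (A ⊗[K] Ω) C, ← Ideal.map_map]
  haveI : IsLocalHom (algebraMap A C) :=
    ((local_hom_TFAE _).out 0 2 rfl rfl).mpr hm.ge
  have hmem : ∀ z ∈ I, algebraMap (A ⊗[K] Ω) C z ∈ maximalIdeal C := fun z hz =>
    hmax ▸ Ideal.mem_map_of_mem _ (hI hz)
  refine odp_of_ext (fun r => ?_) hm (fun b => ?_) (fun φ hφK hφ => ?_) h
  · rw [hΩ]
    show algebraMap (A ⊗[K] Ω) C (algebraMap K A r ⊗ₜ 1) = _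
    congr 1
    simp [Algebra.algebraMap_eq_smul_one, TensorProduct.smul_tmul]
  · obtain ⟨⟨z, s⟩, hzs⟩ := IsLocalization.surj P.primeCompl b
    obtain ⟨c, hc⟩ := hconst z
    obtain ⟨d, hd⟩ := hconst (s : A ⊗[K] Ω)
    have hd0 : d ≠ 0 := fun e => s.2 (hI (by simpa [e] using hd))
    refine ⟨c / d, ?_⟩
    have h1 := hmem _ hc
    have h2 := hmem _ hd
    rw [map_sub, ← hΩ] at h1 h2
    have h3 : algebraMap Ω C d * (algebraMap Ω C (c / d) - b) ∈ maximalIdeal C := by
      have : algebraMap Ω C d * (algebraMap Ω C (c / d) - b) =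
          b * (algebraMap (A ⊗[K] Ω) C (s : A ⊗[K] Ω) - algebraMap Ω C d) -
            (algebraMap (A ⊗[K] Ω) C z - algebraMap Ω C c) := by
        rw [mul_sub, ← map_mul, mul_div_cancel₀ c hd0, ← hzs]
        ring
      rw [this]
      exact sub_mem (Ideal.mul_mem_left _ _ h2) h1
    exact (Ideal.unit_mul_mem_iff_mem _ ((isUnit_iff_ne_zero.2 hd0).map (algebraMap Ω C))).1 h3
  · have hφK' : ∀ c : K, φ (algebraMap K A c) = algebraMap K (PowerSeries Ω) c := fun c => by
      rw [IsScalarTower.algebraMap_apply K Ω (PowerSeries Ω)]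
      simpa using hφK c
    let φK : A →ₐ[K] PowerSeries Ω := AlgHom.mk φ hφK'
    let Φ : A ⊗[K] Ω →ₐ[K] PowerSeries Ω :=
      Algebra.TensorProduct.productMap φK (IsScalarTower.toAlgHom K Ω (PowerSeries Ω))
    have hΦA : ∀ a, Φ (algebraMap A (A ⊗[K] Ω) a) = φ a := fun a => by
      simp [Φ, φK, Algebra.TensorProduct.algebraMap_apply]
    have hΦΩ : ∀ c, Φ ((1 : A) ⊗ₜ c) = PowerSeries.C c := fun c => by simp [Φ]
    have hΦI : ∀ z ∈ I, Φ z ∈ maximalIdeal (PowerSeries Ω) := fun z hz =>
      (Ideal.map_le_iff_le_comap (K := (maximalIdeal (PowerSeries Ω)).comap Φ)).2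
        (fun a ha => by rw [Ideal.mem_comap, Ideal.mem_comap, hΦA]; exact hφ a ha) hz
    have hu : ∀ s : P.primeCompl, IsUnit (Φ.toRingHom s) := fun s => by
      obtain ⟨d, hd⟩ := hconst (s : A ⊗[K] Ω)
      have hd0 : d ≠ 0 := fun e => s.2 (hI (by simpa [e] using hd))
      by_contra hs
      have h1 := sub_mem (show Φ (s : A ⊗[K] Ω) ∈ maximalIdeal (PowerSeries Ω) from hs) (hΦI _ hd)
      rw [map_sub, sub_sub_cancel, hΦΩ] at h1
      exact h1 ((isUnit_iff_ne_zero.2 hd0).map PowerSeries.C)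
    refine ⟨IsLocalization.lift (M := P.primeCompl) hu, fun a => ?_, fun c => ?_, fun b hb => ?_⟩
    · rw [IsScalarTower.algebraMap_apply A (A ⊗[K] Ω) C, IsLocalization.lift_eq]; exact hΦA a
    · rw [hΩ, IsLocalization.lift_eq]; exact hΦΩ c
    · rw [← hmax, hPI] at hb
      refine (Ideal.map_le_iff_le_comap (K := (maximalIdeal (PowerSeries Ω)).comap
        (IsLocalization.lift (M := P.primeCompl) (S := C) hu))).2 (fun z hz => ?_) hb
      rw [Ideal.mem_comap, Ideal.mem_comap, IsLocalization.lift_eq]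
      exact hΦI z hz

end Alg

attribute [local instance] Curv2.stalkAlgebra

/-- The localisation `Spec (O_x ⊗ B) ⟶ X × Spec B`, with both projections. -/
theorem exists_chart_stalk (k : Type u) [Field k] (X : Scheme.{u}) [X.Over (Spec (CommRingCat.of k))] (x : X)
    (B : Type u) [CommRing B] [Algebra k B] :
    ∃ ι : Spec (CommRingCat.of (X.presheaf.stalk x ⊗[k] B)) ⟶
        pullback (X ↘ Spec (CommRingCat.of k)) (Spec.map (CommRingCat.ofHom (algebraMap k B))),
      (ι ≫ pullback.fst _ _ = Spec.map (CommRingCat.ofHom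
        (algebraMap (X.presheaf.stalk x) (X.presheaf.stalk x ⊗[k] B))) ≫ X.fromSpecStalk x) ∧
      (ι ≫ pullback.snd _ _ = Spec.map (CommRingCat.ofHom
        (Algebra.TensorProduct.includeRight : B →ₐ[k] X.presheaf.stalk x ⊗[k] B).toRingHom)) ∧
      Flat ι ∧ IsPreimmersion ι ∧
      ∀ z, pullback.fst (X ↘ Spec (CommRingCat.of k)) (Spec.map (CommRingCat.ofHom (algebraMap k B))) z ⤳ x →
        z ∈ Set.range ι := by
  let m := pullback.map (X.fromSpecStalk x ≫ (X ↘ Spec (CommRingCat.of k)))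
    (Spec.map (CommRingCat.ofHom (algebraMap k B))) (X ↘ Spec (CommRingCat.of k))
    (Spec.map (CommRingCat.ofHom (algebraMap k B))) (X.fromSpecStalk x) (𝟙 _) (𝟙 _) (by simp) (by simp)
  have hm : IsPullback (pullback.fst _ _) m (X.fromSpecStalk x) (pullback.fst _ _) :=
    (IsPullback.of_right (by simpa [m] using (IsPullback.of_hasPullback (X.fromSpecStalk x ≫ (X ↘ Spec (CommRingCat.of k)))
      (Spec.map (CommRingCat.ofHom (algebraMap k B)))).flip) (by simp [m]) (IsPullback.of_hasPullback _ _).flip).flip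
  haveI : Flat m := MorphismProperty.of_isPullback hm (GrothLib.FFDesc.flat_fromSpecStalk' X x)
  haveI : IsPreimmersion m := MorphismProperty.of_isPullback hm inferInstance
  let e := pullback.congrHom (Groth.Agent.Lib.AlgMisc.GeomRedAt.fromSpecStalk_over k X x)
    (rfl : Spec.map (CommRingCat.ofHom (algebraMap k B)) = _) ≪≫ pullbackSpecIso k (X.presheaf.stalk x) B
  refine ⟨e.inv ≫ m, ?_, ?_, inferInstance, inferInstance, ?_⟩
  · simp only [Category.assoc, m, pullback.lift_fst, e, Iso.trans_inv, pullback.congrHom_inv,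
      pullback.map]
    rw [pullback.lift_fst_assoc]
    simp only [Category.assoc, Category.id_comp, pullbackSpecIso_inv_fst_assoc]
    rfl
  · simp only [Category.assoc, m, pullback.lift_snd, e, Iso.trans_inv, pullback.congrHom_inv,
      pullback.map, Category.comp_id, pullbackSpecIso_inv_snd]
    rfl
  · intro z hz
    have hz' : pullback.fst (X ↘ Spec (CommRingCat.of k)) (Spec.map (CommRingCat.ofHom (algebraMap k B))) z ∈ Set.range (X.fromSpecStalk x) := by
      rw [Scheme.range_fromSpecStalk]; exact hz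
    obtain ⟨t, ht⟩ := hz'
    obtain ⟨w, -, hw⟩ := Scheme.exists_preimage_of_isPullback hm t z ht
    refine ⟨e.hom w, ?_⟩
    rw [← Scheme.Hom.comp_apply, e.hom_inv_id_assoc, hw]

/-- Ordinary double points persist on base change to a larger field. -/
theorem odp_pullback_over {K Ω : Type u} [Field K] [Field Ω] [Algebra K Ω] {W : Scheme.{u}}
    [W.Over (Spec (CommRingCat.of K))] [LocallyOfFiniteType (W ↘ Spec (CommRingCat.of K))]
    (w' : (pullback (W ↘ Spec (CommRingCat.of K)) (Spec.map (CommRingCat.ofHom (algebraMap K Ω))) :))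
    (h : Odp K (W ↘ Spec (CommRingCat.of K)) (pullback.fst (W ↘ Spec (CommRingCat.of K)) (Spec.map (CommRingCat.ofHom (algebraMap K Ω))) w')) :
    Odp Ω (pullback.snd (W ↘ Spec (CommRingCat.of K)) (Spec.map (CommRingCat.ofHom (algebraMap K Ω)))) w' := by
  haveI : IsLocallyNoetherian W := LocallyOfFiniteType.isLocallyNoetherian (W ↘ Spec (CommRingCat.of K))
  obtain ⟨x, hx⟩ : ∃ x, pullback.fst (W ↘ Spec (CommRingCat.of K)) (Spec.map (CommRingCat.ofHom (algebraMap K Ω))) w' = x := ⟨_, rfl⟩
  rw [hx] at h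
  obtain ⟨ι, hι, hι2, hflat, hpre, hrange⟩ := exists_chart_stalk K W x Ω
  obtain ⟨w, hw⟩ := hrange w' (Inseparable.of_eq hx).specializes
  subst hw
  let T := W.presheaf.stalk x ⊗[K] Ω
  let wp : PrimeSpectrum T := w
  have hP : wp.asIdeal.comap (algebraMap (W.presheaf.stalk x) T) =
      IsLocalRing.maximalIdeal (W.presheaf.stalk x) := by
    have h1 : W.fromSpecStalk x (Spec.map (CommRingCat.ofHom
        (algebraMap (W.presheaf.stalk x) T)) w) = x :=
      ((congrArg (fun f => f w) hι).symm.trans hx :)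
    have h2 := (W.fromSpecStalk x).isEmbedding.injective (h1.trans Scheme.fromSpecStalk_closedPoint.symm)
    exact congrArg PrimeSpectrum.asIdeal h2
  have hbij : Function.Bijective (ι.stalkMap w).hom := by
    refine ⟨?_, ι.stalkMap_surjective w⟩
    algebraize [(ι.stalkMap w).hom]
    haveI : Module.Flat _ _ := Flat.stalkMap ι w
    haveI : IsLocalHom (algebraMap ((pullback (W ↘ Spec (CommRingCat.of K)) (Spec.map (CommRingCat.ofHom (algebraMap K Ω)))).presheaf.stalk (ι w))
        ((Spec (CommRingCat.of T)).presheaf.stalk w)) :=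
      inferInstanceAs (IsLocalHom (ι.stalkMap w).hom)
    haveI := Module.FaithfullyFlat.of_flat_of_isLocalHom
      (A := (pullback (W ↘ Spec (CommRingCat.of K)) (Spec.map (CommRingCat.ofHom (algebraMap K Ω)))).presheaf.stalk (ι w))
      (B := (Spec (CommRingCat.of T)).presheaf.stalk w)
    exact FaithfulSMul.algebraMap_injective ((pullback (W ↘ Spec (CommRingCat.of K)) (Spec.map (CommRingCat.ofHom (algebraMap K Ω)))).presheaf.stalk (ι w))
        ((Spec (CommRingCat.of T)).presheaf.stalk w)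
  let sP := pullback.snd (W ↘ Spec (CommRingCat.of K)) (Spec.map (CommRingCat.ofHom (algebraMap K Ω)))
  let sT : Spec (CommRingCat.of T) ⟶ Spec (CommRingCat.of Ω) := Spec.map (CommRingCat.ofHom
    (Algebra.TensorProduct.includeRight : Ω →ₐ[K] T).toRingHom)
  haveI : LocallyOfFiniteType sP := MorphismProperty.pullback_snd _ _ inferInstance
  haveI : IsLocallyNoetherian (pullback (W ↘ Spec (CommRingCat.of K)) (Spec.map (CommRingCat.ofHom (algebraMap K Ω)))) :=
    LocallyOfFiniteType.isLocallyNoetherian sP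
  letI algT : Algebra T ((Spec (CommRingCat.of T)).presheaf.stalk w) :=
    StructureSheaf.stalkAlgebra (R := T) w
  haveI : IsLocalization.AtPrime ((Spec (CommRingCat.of T)).presheaf.stalk w) wp.asIdeal :=
    StructureSheaf.IsLocalization.to_stalk T wp
  letI := @Curv2.stalkAlgebra Ω _ (Spec (CommRingCat.of T)) ⟨sT⟩ w
  letI := @Curv2.stalkAlgebra Ω _ _ ⟨sP⟩ (ι w)
  haveI : IsNoetherianRing ((Spec (CommRingCat.of T)).presheaf.stalk w) :=
    isNoetherianRing_of_ringEquiv _ (RingEquiv.ofBijective _ hbij)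
  have hC : Curv2.IsOrdDoublePt Ω ((Spec (CommRingCat.of T)).presheaf.stalk w) := by
    refine odp_localization h wp.asIdeal hP _ fun c => ?_
    show ((Spec (CommRingCat.of T)).presheaf.germ ⊤ w trivial).hom (Coh.toGlobal sT c) = _
    have h1 : Coh.toGlobal sT c = (Scheme.ΓSpecIso (CommRingCat.of T)).inv ((1 : W.presheaf.stalk x) ⊗ₜ c) :=
      (congr(CommRingCat.Hom.hom $(Scheme.ΓSpecIso_inv_naturality (CommRingCat.ofHom
        (Algebra.TensorProduct.includeRight : Ω →ₐ[K] T).toRingHom)) c)).symm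
    rw [h1]
    rfl
  -- transfer along the chart
  letI := (ι.stalkMap w).hom.toAlgebra
  haveI : IsScalarTower Ω ((pullback (W ↘ Spec (CommRingCat.of K)) (Spec.map (CommRingCat.ofHom (algebraMap K Ω)))).presheaf.stalk (ι w))
      ((Spec (CommRingCat.of T)).presheaf.stalk w) :=
    IsScalarTower.of_algebraMap_eq fun c => (stalkMap_comp (RingHom.id Ω) sP sT ι (by
      rw [hι2, CommRingCat.ofHom_id, Spec.map_id, Category.comp_id]) w c).symm
  haveI : Module.Flat ((pullback (W ↘ Spec (CommRingCat.of K)) (Spec.map (CommRingCat.ofHom (algebraMap K Ω)))).presheaf.stalk (ι w))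
      ((Spec (CommRingCat.of T)).presheaf.stalk w) := Flat.stalkMap ι w
  haveI : IsLocalHom (algebraMap ((pullback (W ↘ Spec (CommRingCat.of K)) (Spec.map (CommRingCat.ofHom (algebraMap K Ω)))).presheaf.stalk (ι w))
      ((Spec (CommRingCat.of T)).presheaf.stalk w)) := inferInstanceAs (IsLocalHom (ι.stalkMap w).hom)
  obtain ⟨φ⟩ := GrothLib.GRingFT.exists_completion_algEquiv (D := Ω)
    (R := (pullback (W ↘ Spec (CommRingCat.of K)) (Spec.map (CommRingCat.ofHom (algebraMap K Ω)))).presheaf.stalk (ι w))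
    (T := (Spec (CommRingCat.of T)).presheaf.stalk w)
    (le_antisymm (((local_hom_TFAE _).out 0 2 rfl rfl).mp ‹IsLocalHom (algebraMap _ _)›) fun c hc => by
      obtain ⟨b, rfl⟩ := hbij.2 c
      exact Ideal.mem_map_of_mem _ (fun hb => hc (hb.map (ι.stalkMap w).hom)))
    (GrothLib.GRingFT.residueField_map_bijective fun t => by
      obtain ⟨b, hb⟩ := hbij.2 t
      exact ⟨b, by rw [show algebraMap _ _ b = t from hb, sub_self]; exact zero_mem _⟩)
  refine odp_of_completion_equiv φ.toRingEquiv.symm (fun c => ?_) hC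
  apply φ.toRingEquiv.injective
  rw [RingEquiv.apply_symm_apply, ← IsScalarTower.algebraMap_apply Ω, ← IsScalarTower.algebraMap_apply Ω]
  exact (φ.commutes c).symm

/-- Ordinary double points persist on base change to a larger field. -/
theorem odp_pullback {K Ω : Type u} [Field K] [Field Ω] [Algebra K Ω] {W : Scheme.{u}}
    (s : W ⟶ Spec (CommRingCat.of K)) [LocallyOfFiniteType s]
    (w' : (pullback s (Spec.map (CommRingCat.ofHom (algebraMap K Ω))) :))
    (h : Odp K s (pullback.fst s (Spec.map (CommRingCat.ofHom (algebraMap K Ω))) w')) :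
    Odp Ω (pullback.snd s (Spec.map (CommRingCat.ofHom (algebraMap K Ω)))) w' :=
  letI : W.Over (Spec (CommRingCat.of K)) := ⟨s⟩
  haveI : LocallyOfFiniteType (W ↘ Spec (CommRingCat.of K)) := ‹LocallyOfFiniteType s›
  odp_pullback_over w' h

end GrothLib.NodeEt
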