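import Groth.Prelude.Def_CurvBase
import Groth.Agent.Lib.GRingFT.Main
import Groth.Agent.Lib.EtBasicB.OverField
import Mathlib.AlgebraicGeometry.AlgClosed.Basic
import Mathlib.AlgebraicGeometry.Morphisms.Etale
import Mathlib.RingTheory.Unramified.LocalRing
import Mathlib.RingTheory.MvPowerSeries.Trunc

/-!
# Ordinary double points and étale morphisms
-/

set_option autoImplicit false
set_option linter.all false
set_option backward.isDefEq.respectTransparency false

universe u

open CategoryTheory Limits AlgebraicGeometry IsLocalRing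

noncomputable section

namespace GrothLib.NodeEt

section Alg

variable {K : Type u} [Field K]

/-- An ordinary double point over `K` has residue field `K`. -/
theorem exists_sub_mem_of_odp {A : Type u} [CommRing A] [Algebra K A] [IsLocalRing A]
    (h : Curv2.IsOrdDoublePt K A) (a : A) : ∃ c : K, algebraMap K A c - a ∈ maximalIdeal A := by
  obtain ⟨e, he⟩ := h
  let ψ : (MvPowerSeries (Fin 2) K ⧸
      Ideal.span {(MvPowerSeries.X 0 * MvPowerSeries.X 1 : MvPowerSeries (Fin 2) K)}) →+* K :=
    Ideal.Quotient.lift _ MvPowerSeries.constantCoeff (fun f hf => by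
      obtain ⟨g, rfl⟩ := Ideal.mem_span_singleton.1 hf
      simp)
  let r : A →+* K := ψ.comp (e.toRingHom.comp (algebraMap A _))
  have hr : ∀ c, r (algebraMap K A c) = c := fun c => by
    show ψ (e (algebraMap A _ (algebraMap K A c))) = c
    rw [he]; simp [ψ]
  have hmax : RingHom.ker r = maximalIdeal A := by
    haveI := RingHom.ker_isMaximal_of_surjective r fun c => ⟨_, hr c⟩
    exact IsLocalRing.eq_maximalIdeal inferInstance
  exact ⟨r a, by rw [← hmax, RingHom.mem_ker, map_sub, hr, sub_self]⟩

theorem odp_of_completion_equiv {A B : Type u} [CommRing A] [CommRing B] [Algebra K A] [Algebra K B]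
    [IsLocalRing A] [IsLocalRing B]
    (φ : AdicCompletion (maximalIdeal A) A ≃+* AdicCompletion (maximalIdeal B) B)
    (hφ : ∀ c : K, φ (algebraMap A _ (algebraMap K A c)) = algebraMap B _ (algebraMap K B c))
    (h : Curv2.IsOrdDoublePt K A) : Curv2.IsOrdDoublePt K B := by
  obtain ⟨e, he⟩ := h
  refine ⟨φ.symm.trans e, fun c => ?_⟩
  rw [RingEquiv.trans_apply, ← hφ, RingEquiv.symm_apply_apply, he]

/-- Unramified flat maps of local algebras over an algebraically closed field. -/
theorem odp_iff_of_unramified [IsAlgClosed K] {A B : Type u} [CommRing A] [CommRing B]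
    [Algebra K A] [Algebra K B] [Algebra A B] [IsScalarTower K A B]
    [IsLocalRing A] [IsLocalRing B] [IsNoetherianRing A] [IsNoetherianRing B]
    [IsLocalHom (algebraMap A B)] [Algebra.FormallyUnramified A B] [Algebra.EssFiniteType A B]
    [Module.Flat A B] :
    Curv2.IsOrdDoublePt K A ↔ Curv2.IsOrdDoublePt K B := by
  have hm := Algebra.FormallyUnramified.map_maximalIdeal (R := A) (S := B)
  have main : (∀ b : B, ∃ c : K, algebraMap K B c - b ∈ maximalIdeal B) →
      (Curv2.IsOrdDoublePt K A ↔ Curv2.IsOrdDoublePt K B) := fun hres => by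
    obtain ⟨φ⟩ := GrothLib.GRingFT.exists_completion_algEquiv (D := K) hm
      (GrothLib.GRingFT.residueField_map_bijective fun b => by
        obtain ⟨c, hc⟩ := hres b
        exact ⟨algebraMap K A c, by rwa [← IsScalarTower.algebraMap_apply]⟩)
    have hφ : ∀ c : K, φ.toRingEquiv (algebraMap A _ (algebraMap K A c)) =
        algebraMap B _ (algebraMap K B c) := fun c => by
      rw [← IsScalarTower.algebraMap_apply K A, ← IsScalarTower.algebraMap_apply K B]
      exact φ.commutes c
    refine ⟨odp_of_completion_equiv φ.toRingEquiv hφ,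
      odp_of_completion_equiv φ.toRingEquiv.symm fun c => ?_⟩
    rw [← hφ, RingEquiv.symm_apply_apply]
  refine ⟨fun h => (main ?_).1 h, fun h => (main (exists_sub_mem_of_odp h)).2 h⟩
  -- the residue field of `B` is finite over that of `A`, which is `K`
  have hA : Function.Surjective (algebraMap K (ResidueField A)) := fun x => by
    obtain ⟨a, rfl⟩ := residue_surjective x
    obtain ⟨c, hc⟩ := exists_sub_mem_of_odp h a
    exact ⟨c, by rw [IsScalarTower.algebraMap_apply K A (ResidueField A)]
                 exact Ideal.Quotient.eq.2 hc⟩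
  haveI : Module.Finite K (ResidueField A) :=
    Module.Finite.of_surjective (Algebra.linearMap K (ResidueField A)) hA
  haveI : IsScalarTower K (ResidueField A) (ResidueField B) := IsScalarTower.of_algebraMap_eq fun c => by
    rw [IsScalarTower.algebraMap_apply K A (ResidueField B), IsScalarTower.algebraMap_apply K A (ResidueField A),
      ← IsScalarTower.algebraMap_apply A (ResidueField A) (ResidueField B)]
  haveI : Module.Finite K (ResidueField B) := Module.Finite.trans (ResidueField A) (ResidueField B)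
  intro b
  obtain ⟨c, hc⟩ := (IsAlgClosed.algebraMap_bijective_of_isIntegral (k := K) (K := ResidueField B)).2
    (residue B b)
  refine ⟨c, Ideal.Quotient.eq.1 ?_⟩
  rw [IsScalarTower.algebraMap_apply K B (ResidueField B)] at hc
  exact hc

/-- Change of the base field along an isomorphism. -/
theorem odp_of_equiv {L : Type u} [Field L] (σ : K ≃+* L) {A : Type u} [CommRing A] [IsLocalRing A]
    [Algebra K A] [Algebra L A] (h : ∀ c, algebraMap L A (σ c) = algebraMap K A c)
    (hA : Curv2.IsOrdDoublePt K A) : Curv2.IsOrdDoublePt L A := by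
  obtain ⟨e, he⟩ := hA
  let τ : MvPowerSeries (Fin 2) K ≃+* MvPowerSeries (Fin 2) L :=
    RingEquiv.ofRingHom (MvPowerSeries.map σ.toRingHom) (MvPowerSeries.map σ.symm.toRingHom)
      (RingHom.ext fun f => MvPowerSeries.ext fun n => by simp)
      (RingHom.ext fun f => MvPowerSeries.ext fun n => by simp)
  have hI : Ideal.span {(MvPowerSeries.X 0 * MvPowerSeries.X 1 : MvPowerSeries (Fin 2) L)} =
      (Ideal.span {(MvPowerSeries.X 0 * MvPowerSeries.X 1 : MvPowerSeries (Fin 2) K)}).map τ := by
    rw [Ideal.map_span, Set.image_singleton]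
    simp [τ, MvPowerSeries.map_X]
  refine ⟨e.trans (Ideal.quotientEquiv _ _ τ hI), fun c => ?_⟩
  obtain ⟨c, rfl⟩ := σ.surjective c
  rw [h, RingEquiv.trans_apply, he, Ideal.quotientEquiv_mk]
  simp [τ]

end Alg

/-- Ordinary double points of schemes over a field. -/
def Odp (K : Type u) [Field K] {W : Scheme.{u}} (s : W ⟶ Spec (CommRingCat.of K)) (w : W) : Prop :=
  @Curv2.IsOrdDoublePt K _ (W.presheaf.stalk w) _ (@Curv2.stalkAlgebra K _ W ⟨s⟩ w) _

theorem stalkMap_comp {K L : Type u} [Field K] [Field L] (σ : K →+* L) {W W' : Scheme.{u}}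
    (sW : W ⟶ Spec (CommRingCat.of K)) (sW' : W' ⟶ Spec (CommRingCat.of L))
    (m : W' ⟶ W) (hm : m ≫ sW = sW' ≫ Spec.map (CommRingCat.ofHom σ)) (w : W') (c : K) :
    (m.stalkMap w).hom (@Curv2.stalkMap K _ W ⟨sW⟩ (m w) c) = @Curv2.stalkMap L _ W' ⟨sW'⟩ w (σ c) := by
  have h1 : (m.appTop).hom (Coh.toGlobal sW c) = Coh.toGlobal sW' (σ c) := by
    have := congr(CommRingCat.Hom.hom ($(congrArg Scheme.Hom.appTop hm)) ((Scheme.ΓSpecIso (CommRingCat.of K)).inv c))
    simp only [Scheme.Hom.comp_appTop, CommRingCat.hom_comp, RingHom.coe_comp, Function.comp_apply] at this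
    refine this.trans ?_
    have h2 := congr(CommRingCat.Hom.hom $(Scheme.ΓSpecIso_inv_naturality (CommRingCat.ofHom σ)) c)
    exact congrArg sW'.appTop.hom h2.symm
  show (m.stalkMap w).hom ((W.presheaf.germ ⊤ (m w) trivial).hom (Coh.toGlobal sW c)) =
    (W'.presheaf.germ ⊤ w trivial).hom (Coh.toGlobal sW' (σ c))
  rw [← h1]
  exact congr($(Scheme.Hom.germ_stalkMap m ⊤ w trivial) (Coh.toGlobal sW c))

/-- Ordinary double points are insensitive to étale maps and isomorphisms of the field. -/
theorem odp_iff {K L : Type u} [Field K] [Field L] [IsAlgClosed K] (σ : K ≃+* L) {W W' : Scheme.{u}}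
    (sW : W ⟶ Spec (CommRingCat.of K)) (sW' : W' ⟶ Spec (CommRingCat.of L)) [LocallyOfFiniteType sW]
    (m : W' ⟶ W) [Etale m] (hm : m ≫ sW = sW' ≫ Spec.map (CommRingCat.ofHom σ.toRingHom)) (w : W') :
    Odp K sW (m w) ↔ Odp L sW' w := by
  haveI : IsLocallyNoetherian W := LocallyOfFiniteType.isLocallyNoetherian sW
  haveI : IsLocallyNoetherian W' := LocallyOfFiniteType.isLocallyNoetherian m
  letI := @Curv2.stalkAlgebra K _ W ⟨sW⟩ (m w)
  letI algL := @Curv2.stalkAlgebra L _ W' ⟨sW'⟩ w
  letI algK : Algebra K (W'.presheaf.stalk w) :=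
    ((@Curv2.stalkMap L _ W' ⟨sW'⟩ w).comp σ.toRingHom).toAlgebra
  letI := (m.stalkMap w).hom.toAlgebra
  haveI : IsScalarTower K (W.presheaf.stalk (m w)) (W'.presheaf.stalk w) :=
    IsScalarTower.of_algebraMap_eq fun c => (stalkMap_comp σ.toRingHom sW sW' m hm w c).symm
  haveI : IsLocalHom (algebraMap (W.presheaf.stalk (m w)) (W'.presheaf.stalk w)) :=
    inferInstanceAs (IsLocalHom (m.stalkMap w).hom)
  haveI : Module.Flat (W.presheaf.stalk (m w)) (W'.presheaf.stalk w) := Flat.stalkMap m w
  haveI : Algebra.FormallyUnramified (W.presheaf.stalk (m w)) (W'.presheaf.stalk w) :=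
    AlgebraicGeometry.FormallyUnramified.stalkMap m w
  haveI : Algebra.EssFiniteType (W.presheaf.stalk (m w)) (W'.presheaf.stalk w) :=
    LocallyOfFiniteType.stalkMap m w
  refine (odp_iff_of_unramified (K := K) (B := W'.presheaf.stalk w)).trans ⟨fun h => ?_, fun h => ?_⟩
  · exact odp_of_equiv σ (fun c => rfl) h
  · refine odp_of_equiv σ.symm (fun c => ?_) h
    show @Curv2.stalkMap L _ W' ⟨sW'⟩ w (σ (σ.symm c)) = _
    rw [RingEquiv.apply_symm_apply]
    rfl

end GrothLib.NodeEt
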