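import Groth.Agent.Lib.NodeEt.Kaehler
import Groth.Agent.Lib.SepTensor.Basic
import Mathlib.RingTheory.Etale.Kaehler
import Mathlib.RingTheory.Unramified.Field
import Mathlib.RingTheory.Jacobson.Ring
import Mathlib.RingTheory.RingHom.Flat
import Mathlib.RingTheory.TensorProduct.Finite

/-!
# Node forms at points of a base change to an algebraically closed field
-/

set_option autoImplicit false
set_option linter.all false
set_option backward.isDefEq.respectTransparency false

universe u

open IsLocalRing TensorProduct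

noncomputable section

namespace GrothLib.NodeEt.Point

attribute [local instance] Algebra.TensorProduct.rightAlgebra

variable {k : Type u} [Field k] (R : Type u) [CommRing R] [Algebra k R] (L : Type u) [Field L] [Algebra k L]
  (p : Ideal R) [p.IsPrime] (Q : Ideal (L ⊗[k] R)) [Q.IsPrime]

theorem flat_includeRight : Module.Flat R (L ⊗[k] R) :=
  Module.Flat.of_linearEquiv (Algebra.TensorProduct.commRight k R L).symm.toLinearEquiv

theorem flat_localRingHom (hp : p = Q.comap (algebraMap R (L ⊗[k] R))) :
    (Localization.localRingHom p Q (algebraMap R (L ⊗[k] R)) hp).Flat := by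
  haveI := flat_includeRight (k := k) R L
  exact RingHom.Flat.localRingHom (RingHom.flat_algebraMap_iff.2 inferInstance) Q p hp

/-- Reduction of the base change modulo the point. -/
def redQ (p : Ideal R) : L ⊗[k] R →ₐ[L] L ⊗[k] (R ⧸ p) :=
  Algebra.TensorProduct.map (AlgHom.id L L) (Ideal.Quotient.mkₐ k p)

theorem redQ_surjective (p : Ideal R) : Function.Surjective (redQ (k := k) R L p) := by
  intro x
  induction x using TensorProduct.induction_on with
  | zero => exact ⟨0, map_zero _⟩
  | tmul l y =>
    obtain ⟨y, rfl⟩ := Ideal.Quotient.mk_surjective y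
    exact ⟨l ⊗ₜ y, by simp [redQ]⟩
  | add x y hx hy =>
    obtain ⟨a, rfl⟩ := hx
    obtain ⟨b, rfl⟩ := hy
    exact ⟨a + b, map_add _ _ _⟩

theorem ker_redQ (p : Ideal R) : RingHom.ker (redQ (k := k) R L p) = p.map (algebraMap R (L ⊗[k] R)) := by
  have h := Algebra.TensorProduct.lTensor_ker (A := L) (Ideal.Quotient.mkₐ k p) Ideal.Quotient.mk_surjective
  rw [show RingHom.ker (Ideal.Quotient.mkₐ k p) = p from Ideal.mk_ker] at h
  exact h

/-- At a maximal ideal of an algebra of finite type over an algebraically closed field the residue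
field is the base field. -/
theorem exists_sub_mem_maximal [IsAlgClosed L] [Algebra.FiniteType k R] [Q.IsMaximal]
    (b : Localization.AtPrime Q) :
    ∃ t : L, algebraMap L (Localization.AtPrime Q) t - b ∈ maximalIdeal (Localization.AtPrime Q) := by
  letI := Ideal.Quotient.field Q
  haveI : Algebra.FiniteType L (L ⊗[k] R) := inferInstance
  haveI : Module.Finite L ((L ⊗[k] R) ⧸ Q) := finite_of_finite_type_of_isJacobsonRing L ((L ⊗[k] R) ⧸ Q)
  have hsurj : Function.Surjective (algebraMap L ((L ⊗[k] R) ⧸ Q)) :=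
    (IsAlgClosed.algebraMap_bijective_of_isIntegral (k := L) (K := (L ⊗[k] R) ⧸ Q)).2
  obtain ⟨⟨a, s⟩, hs⟩ := IsLocalization.surj Q.primeCompl b
  obtain ⟨ta, hta⟩ := hsurj (Ideal.Quotient.mk Q a)
  obtain ⟨ts, hts⟩ := hsurj (Ideal.Quotient.mk Q s)
  rw [IsScalarTower.algebraMap_apply L (L ⊗[k] R) ((L ⊗[k] R) ⧸ Q), Ideal.Quotient.algebraMap_eq,
    Ideal.Quotient.eq] at hta hts
  have hts0 : ts ≠ 0 := fun h => s.2 (by simpa [h] using hts)
  have hQ : ∀ z ∈ Q, algebraMap (L ⊗[k] R) (Localization.AtPrime Q) z ∈ maximalIdeal (Localization.AtPrime Q) := by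
    intro z hz
    rw [← Localization.AtPrime.map_eq_maximalIdeal]
    exact Ideal.mem_map_of_mem _ hz
  refine ⟨ta / ts, ?_⟩
  have hu := IsLocalization.map_units (Localization.AtPrime Q) s
  rw [← Ideal.mul_unit_mem_iff_mem _ hu, sub_mul]
  simp only [IsScalarTower.algebraMap_apply L (L ⊗[k] R) (Localization.AtPrime Q)]
  rw [show b * algebraMap (L ⊗[k] R) (Localization.AtPrime Q) s = algebraMap _ _ a from hs, ← map_mul, ← map_sub]
  refine hQ _ ?_
  have : algebraMap L (L ⊗[k] R) (ta / ts) * s - a =
      algebraMap L _ (ta / ts) * ((s : L ⊗[k] R) - algebraMap L _ ts) + (algebraMap L _ ta - a) := by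
    rw [mul_sub, ← map_mul, div_mul_cancel₀ _ hts0]; ring
  rw [this]
  exact add_mem (Q.mul_mem_left _ (by simpa using neg_mem hts)) hta

variable [Algebra.FiniteType k R] (hp : p = Q.comap (algebraMap R (L ⊗[k] R)))

include hp

/-- A node form upstairs at a closed point forces the maximal ideal to extend. -/
theorem map_maximalIdeal_eq_of_nodeForm [IsAlgClosed L] [Q.IsMaximal] (h : NodeForm (Localization.AtPrime Q)) :
    (maximalIdeal (Localization.AtPrime p)).map (Localization.localRingHom p Q (algebraMap R (L ⊗[k] R)) hp) =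
      maximalIdeal (Localization.AtPrime Q) := by
  let A := Localization.AtPrime p
  let B := Localization.AtPrime Q
  let f := Localization.localRingHom p Q (algebraMap R (L ⊗[k] R)) hp
  letI : Algebra A B := f.toAlgebra
  haveI : IsScalarTower R A B := IsScalarTower.of_algebraMap_eq fun x => by
    rw [RingHom.algebraMap_toAlgebra, Localization.localRingHom_to_map,
      ← IsScalarTower.algebraMap_apply R (L ⊗[k] R) B]
  haveI : IsLocalHom (algebraMap A B) := Localization.isLocalHom_localRingHom p Q _ hp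
  haveI : IsNoetherianRing R := Algebra.FiniteType.isNoetherianRing k R
  haveI : IsNoetherianRing (L ⊗[k] R) := Algebra.FiniteType.isNoetherianRing L _
  haveI : IsNoetherianRing B := IsLocalization.isNoetherianRing Q.primeCompl B inferInstance
  haveI : Algebra.FormallyEtale (L ⊗[k] R) B := Algebra.FormallyEtale.of_isLocalization Q.primeCompl
  let e₁ : (L ⊗[k] R) ⊗[R] Ω[R⁄k] ≃ₗ[L ⊗[k] R] Ω[(L ⊗[k] R)⁄L] :=
    KaehlerDifferential.tensorKaehlerEquiv k L R (L ⊗[k] R)
  let e₂ : B ⊗[L ⊗[k] R] Ω[(L ⊗[k] R)⁄L] ≃ₗ[B] Ω[B⁄L] :=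
    KaehlerDifferential.tensorKaehlerEquivOfFormallyEtale L (L ⊗[k] R) B
  let e : B ⊗[A] (A ⊗[R] Ω[R⁄k]) ≃ₗ[B] Ω[B⁄L] :=
    (TensorProduct.AlgebraTensorModule.cancelBaseChange R A B B Ω[R⁄k]).trans
      ((TensorProduct.AlgebraTensorModule.cancelBaseChange R (L ⊗[k] R) B B Ω[R⁄k]).symm.trans
        ((TensorProduct.AlgebraTensorModule.congr (LinearEquiv.refl B B) e₁).trans e₂))
  exact map_maximalIdeal_of_nodeForm (fun b => exists_sub_mem_maximal R L Q b) h (A ⊗[R] Ω[R⁄k]) e

/-- A node form upstairs at a closed point gives one downstairs. -/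
theorem nodeForm_down [IsAlgClosed L] [Q.IsMaximal] (h : NodeForm (Localization.AtPrime Q)) :
    NodeForm (Localization.AtPrime p) := by
  let f := Localization.localRingHom p Q (algebraMap R (L ⊗[k] R)) hp
  letI : Algebra (Localization.AtPrime p) (Localization.AtPrime Q) := f.toAlgebra
  haveI : Module.Flat (Localization.AtPrime p) (Localization.AtPrime Q) := flat_localRingHom R L p Q hp
  haveI : IsNoetherianRing R := Algebra.FiniteType.isNoetherianRing k R
  haveI : IsNoetherianRing (Localization.AtPrime p) := IsLocalization.isNoetherianRing p.primeCompl _ inferInstance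
  exact h.descend (map_maximalIdeal_eq_of_nodeForm R L p Q hp h)

/-- The points over a separable closed point are closed and the maximal ideal extends. -/
theorem separable_point [p.IsMaximal] [Algebra.IsSeparable k (R ⧸ p)] :
    Q.IsMaximal ∧ (maximalIdeal (Localization.AtPrime p)).map
        (Localization.localRingHom p Q (algebraMap R (L ⊗[k] R)) hp) = maximalIdeal (Localization.AtPrime Q) := by
  classical
  letI := Ideal.Quotient.field p
  haveI : Module.Finite k (R ⧸ p) := finite_of_finite_type_of_isJacobsonRing k (R ⧸ p)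
  haveI : Algebra.FormallyUnramified k (R ⧸ p) := Algebra.FormallyUnramified.of_isSeparable k (R ⧸ p)
  set π := redQ (k := k) R L p with hπdef
  have hπ : Function.Surjective π := redQ_surjective R L p
  set pR := p.map (algebraMap R (L ⊗[k] R)) with hpR
  have hker : RingHom.ker π = pR := ker_redQ R L p
  have hle : pR ≤ Q := by rw [hpR, Ideal.map_le_iff_le_comap, ← hp]
  haveI : Module.Finite L (L ⊗[k] (R ⧸ p)) := inferInstance
  haveI : IsArtinianRing (L ⊗[k] (R ⧸ p)) := isArtinian_of_tower L inferInstance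
  haveI : _root_.IsReduced (L ⊗[k] (R ⧸ p)) := Algebra.FormallyUnramified.isReduced_of_field L _
  have hQ' : (Q.map π).IsPrime := Ideal.map_isPrime_of_surjective hπ (hker ▸ hle)
  haveI := hQ'
  have hQ'max : (Q.map π).IsMaximal := IsArtinianRing.isMaximal_of_isPrime (Q.map π)
  have hcomap : (Q.map π).comap π = Q := by
    rw [Ideal.comap_map_of_surjective π hπ, ← RingHom.ker_eq_comap_bot, sup_eq_left]
    exact hker ▸ hle
  have hQmax : Q.IsMaximal := hcomap ▸ Ideal.comap_isMaximal_of_surjective π hπ
  refine ⟨hQmax, le_antisymm ?_ ?_⟩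
  · exact ((local_hom_TFAE (Localization.localRingHom p Q (algebraMap R (L ⊗[k] R)) hp)).out 0 2).1
      (Localization.isLocalHom_localRingHom p Q _ hp)
  -- an element outside `Q` kills `Q` modulo `pR`
  obtain ⟨s, hsQ, hs⟩ : ∃ s ∉ Q.map π, ∀ z ∈ Q.map π, s * z = 0 := by
    let T := L ⊗[k] (R ⧸ p)
    haveI : Finite (PrimeSpectrum T) := inferInstance
    let others := (Set.toFinite {P : PrimeSpectrum T | P.asIdeal ≠ Q.map π}).toFinset
    have : ¬ others.inf PrimeSpectrum.asIdeal ≤ Q.map π := by
      intro hle'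
      obtain ⟨P, hP, hPQ⟩ := hQ'.inf_le'.1 hle'
      rw [Set.Finite.mem_toFinset] at hP
      haveI := IsArtinianRing.isMaximal_of_isPrime P.asIdeal
      exact hP ((Ideal.IsMaximal.eq_of_le inferInstance hQ'.ne_top hPQ))
    obtain ⟨s, hs, hsQ⟩ := SetLike.not_le_iff_exists.1 this
    refine ⟨s, hsQ, fun z hz => ?_⟩
    refine IsNilpotent.eq_zero ((mem_nilradical).1 ?_)
    rw [nilradical_eq_sInf, Ideal.mem_sInf]
    intro P (hP : P.IsPrime)
    by_cases hPQ : P = Q.map π
    · exact hPQ ▸ Ideal.mul_mem_left _ _ hz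
    · exact Ideal.mul_mem_right _ _ (Finset.inf_le (f := PrimeSpectrum.asIdeal) (b := ⟨P, hP⟩) (s := others)
        ((Set.Finite.mem_toFinset _).2 hPQ) hs)
  rw [← Localization.AtPrime.map_eq_maximalIdeal, Ideal.map_le_iff_le_comap]
  intro z hz
  obtain ⟨s, rfl⟩ := hπ s
  have h1 : π (s * z) = 0 := by rw [map_mul]; exact hs _ (Ideal.mem_map_of_mem π hz)
  rw [← RingHom.mem_ker, hker] at h1
  have h2 := Ideal.mem_map_of_mem (algebraMap (L ⊗[k] R) (Localization.AtPrime Q)) h1
  have hsu : IsUnit (algebraMap (L ⊗[k] R) (Localization.AtPrime Q) s) :=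
    IsLocalization.map_units _ (⟨s, fun h => hsQ (Ideal.mem_map_of_mem π h)⟩ : Q.primeCompl)
  rw [map_mul, Ideal.unit_mul_mem_iff_mem _ hsu] at h2
  rw [Ideal.mem_comap]
  have e : pR.map (algebraMap (L ⊗[k] R) (Localization.AtPrime Q)) =
      (maximalIdeal (Localization.AtPrime p)).map (Localization.localRingHom p Q (algebraMap R (L ⊗[k] R)) hp) := by
    rw [hpR, Ideal.map_map, ← Localization.AtPrime.map_eq_maximalIdeal, Ideal.map_map]
    congr 1
    ext x
    simp [Localization.localRingHom_to_map]
  exact e.le h2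

/-- Node forms go up along separable closed points. -/
theorem nodeForm_up [p.IsMaximal] [Algebra.IsSeparable k (R ⧸ p)] (h : NodeForm (Localization.AtPrime p)) :
    NodeForm (Localization.AtPrime Q) := by
  let f := Localization.localRingHom p Q (algebraMap R (L ⊗[k] R)) hp
  letI : Algebra (Localization.AtPrime p) (Localization.AtPrime Q) := f.toAlgebra
  haveI : Module.Flat (Localization.AtPrime p) (Localization.AtPrime Q) := flat_localRingHom R L p Q hp
  exact h.of_flat (separable_point R L p Q hp).2

omit hp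

/-- A closed point all of whose points upstairs have node form has separable residue field. -/
theorem isSeparable_of_nodeForm [IsAlgClosed L] [p.IsMaximal]
    (h : ∀ (Q : Ideal (L ⊗[k] R)) [Q.IsMaximal], p = Q.comap (algebraMap R (L ⊗[k] R)) →
      NodeForm (Localization.AtPrime Q)) :
    Algebra.IsSeparable k (R ⧸ p) := by
  letI := Ideal.Quotient.field p
  haveI : Module.Finite k (R ⧸ p) := finite_of_finite_type_of_isJacobsonRing k (R ⧸ p)
  set π := redQ (k := k) R L p with hπdef
  have hπ : Function.Surjective π := redQ_surjective R L p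
  set pR := p.map (algebraMap R (L ⊗[k] R)) with hpR
  have hker : RingHom.ker π = pR := ker_redQ R L p
  haveI : _root_.IsReduced (L ⊗[k] (R ⧸ p)) := by
    refine ⟨fun x hx => ?_⟩
    obtain ⟨z, rfl⟩ := hπ x
    obtain ⟨n, hn⟩ := hx
    rw [← map_pow, ← RingHom.mem_ker, hker] at hn
    rw [← RingHom.mem_ker, hker]
    -- the transporter of `z` into `pR` lies in no maximal ideal
    let I : Ideal (L ⊗[k] R) := Submodule.colon pR {z}
    suffices I = ⊤ by
      have h1 : (1 : L ⊗[k] R) ∈ I := this ▸ Submodule.mem_top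
      simpa [I, Submodule.mem_colon_singleton] using h1
    by_contra hI
    obtain ⟨M, hM, hIM⟩ := Ideal.exists_le_maximal I hI
    have hpM : pR ≤ M := fun y hy => hIM (Submodule.mem_colon_singleton.2 (by simpa using Ideal.mul_mem_right z _ hy))
    have hpM' : p = M.comap (algebraMap R (L ⊗[k] R)) :=
      Ideal.IsMaximal.eq_of_le inferInstance (Ideal.IsPrime.comap _).ne_top
        (Ideal.map_le_iff_le_comap.1 (hpR ▸ hpM))
    have hm := map_maximalIdeal_eq_of_nodeForm R L p M hpM' (h M hpM')
    have hzM : z ∈ M := hM.isPrime.mem_of_pow_mem n (hpM hn)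
    have h1 : algebraMap (L ⊗[k] R) (Localization.AtPrime M) z ∈
        pR.map (algebraMap (L ⊗[k] R) (Localization.AtPrime M)) := by
      have e : pR.map (algebraMap (L ⊗[k] R) (Localization.AtPrime M)) = maximalIdeal (Localization.AtPrime M) := by
        rw [← hm, hpR, Ideal.map_map, ← Localization.AtPrime.map_eq_maximalIdeal (I := p), Ideal.map_map]
        congr 1
        ext y
        simp [Localization.localRingHom_to_map]
      rw [e, ← Localization.AtPrime.map_eq_maximalIdeal]
      exact Ideal.mem_map_of_mem _ hzM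
    rw [IsLocalization.mem_map_algebraMap_iff M.primeCompl] at h1
    obtain ⟨⟨⟨y, hy⟩, ⟨s, hs⟩⟩, hys⟩ := h1
    rw [← map_mul, IsLocalization.eq_iff_exists M.primeCompl] at hys
    obtain ⟨⟨t, ht⟩, hts⟩ := hys
    refine (hM.isPrime.mul_notMem ht hs) (hIM (Submodule.mem_colon_singleton.2 ?_))
    show t * s * z ∈ pR
    rw [show t * s * z = t * (z * s) by ring, show t * (z * s) = t * y from hts]
    exact pR.mul_mem_left _ hy
  haveI : PerfectField L := inferInstance
  exact ⟨fun x => GrothLib.SepTensor.isSeparable_of_isReduced_tensor (K := L) (Algebra.IsIntegral.isIntegral x)⟩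

end GrothLib.NodeEt.Point
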