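import Groth.Agent.Lib.NodeEt.Node
import Groth.Agent.Lib.NodeEt.Point
import Mathlib.AlgebraicGeometry.Pullbacks

/-!
# Charts for base changes of schemes over a field
-/

set_option autoImplicit false
set_option linter.all false
set_option backward.isDefEq.respectTransparency false

universe u

open CategoryTheory Limits AlgebraicGeometry IsLocalRing TensorProduct

noncomputable section

namespace GrothLib.NodeEt

attribute [local instance] Algebra.TensorProduct.rightAlgebra

theorem stalkMap_spec {K : Type u} [Field K] (T : Type u) [CommRing T] [Algebra K T] (q : PrimeSpectrum T) (c : K) :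
    @Curv2.stalkMap K _ (Spec (CommRingCat.of T)) ⟨Spec.map (CommRingCat.ofHom (algebraMap K T))⟩ q c =
      (StructureSheaf.toStalk T q).hom (algebraMap K T c) := by
  show ((Spec (CommRingCat.of T)).presheaf.germ ⊤ q trivial).hom
    (Coh.toGlobal (Spec.map (CommRingCat.ofHom (algebraMap K T))) c) = _
  have h := congr(CommRingCat.Hom.hom $(Scheme.ΓSpecIso_inv_naturality (CommRingCat.ofHom (algebraMap K T))) c)
  rw [show Coh.toGlobal (Spec.map (CommRingCat.ofHom (algebraMap K T))) c =
    (Scheme.ΓSpecIso (CommRingCat.of T)).inv.hom (algebraMap K T c) from h.symm]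
  rfl

/-- The stalk at a point of an affine chart is the localisation, compatibly with the base field. -/
theorem exists_stalk_equiv {K : Type u} [Field K] {W : Scheme.{u}} (sW : W ⟶ Spec (CommRingCat.of K))
    (T : Type u) [CommRing T] [Algebra K T] (j : Spec (CommRingCat.of T) ⟶ W) [IsOpenImmersion j]
    (hj : j ≫ sW = Spec.map (CommRingCat.ofHom (algebraMap K T))) (q : PrimeSpectrum T) :
    ∃ e : Localization.AtPrime q.asIdeal ≃+* W.presheaf.stalk (j q),
      ∀ c, e (algebraMap K _ c) = @Curv2.stalkMap K _ W ⟨sW⟩ (j q) c := by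
  let S := (Spec (CommRingCat.of T)).presheaf.stalk q
  letI : Algebra T S := StructureSheaf.stalkAlgebra (R := T) q
  haveI : IsLocalization q.asIdeal.primeCompl S := StructureSheaf.IsLocalization.to_stalk (R := T) q
  let e₁ : Localization.AtPrime q.asIdeal ≃ₐ[T] S := IsLocalization.algEquiv q.asIdeal.primeCompl _ _
  let e₂ : W.presheaf.stalk (j q) ≃+* S := (asIso (j.stalkMap q)).commRingCatIsoToRingEquiv
  refine ⟨e₁.toRingEquiv.trans e₂.symm, fun c => ?_⟩
  rw [RingEquiv.trans_apply, RingEquiv.symm_apply_eq, AlgEquiv.coe_ringEquiv,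
    IsScalarTower.algebraMap_apply K T (Localization.AtPrime q.asIdeal), AlgEquiv.commutes]
  have h := stalkMap_comp (RingHom.id K) sW (Spec.map (CommRingCat.ofHom (algebraMap K T))) j (by
    rw [hj, show CommRingCat.ofHom (RingHom.id K) = 𝟙 _ from rfl, Spec.map_id, Category.comp_id]) q c
  exact ((stalkMap_spec T q c).symm.trans h.symm)

variable {k : Type u} [Field k] {X : Scheme.{u}} (sX : X ⟶ Spec (CommRingCat.of k)) (x : X)

/-- An affine chart at a point. -/
structure Chart where
  R : Type u
  [ring : CommRing R]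
  [alg : Algebra k R]
  [ft : Algebra.FiniteType k R]
  j : Spec (CommRingCat.of R) ⟶ X
  [open_j : IsOpenImmersion j]
  hj : j ≫ sX = Spec.map (CommRingCat.ofHom (algebraMap k R))
  pt : PrimeSpectrum R
  hpt : j pt = x

attribute [instance] Chart.ring Chart.alg Chart.ft Chart.open_j

theorem exists_chart [LocallyOfFiniteType sX] : Nonempty (Chart sX x) := by
  obtain ⟨i, p, hp⟩ := X.affineOpenCover.openCover.exists_eq x
  let A := (X.affineOpenCover.X i)
  let j : Spec A ⟶ X := X.affineOpenCover.f i
  let φ := Spec.preimage (j ≫ sX)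
  letI : Algebra k A := φ.hom.toAlgebra
  have hjq : j ≫ sX = Spec.map (CommRingCat.ofHom (algebraMap k A)) := (Spec.map_preimage _).symm
  haveI : Algebra.FiniteType k A := by
    haveI : LocallyOfFiniteType (Spec.map (CommRingCat.ofHom (algebraMap k A))) := by rw [← hjq]; infer_instance
    exact RingHom.finiteType_algebraMap.mp
      ((HasRingHomProperty.Spec_iff (P := @LocallyOfFiniteType)).mp inferInstance)
  exact ⟨⟨A, j, hjq, p, hp⟩⟩

variable {sX x} (C : Chart sX x)

theorem Chart.isMaximal (hx : IsClosed ({x} : Set X)) : C.pt.asIdeal.IsMaximal := by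
  refine (PrimeSpectrum.isClosed_singleton_iff_isMaximal C.pt).1 ?_
  have : ({C.pt} : Set (PrimeSpectrum C.R)) = C.j ⁻¹' {x} := by
    ext q
    exact ⟨fun h => by rw [Set.mem_singleton_iff] at h; subst h; exact C.hpt,
      fun h => C.j.isOpenEmbedding.injective ((h : C.j q = x).trans C.hpt.symm)⟩
  rw [this]
  exact hx.preimage C.j.continuous

theorem Chart.exists_equiv : ∃ e : Localization.AtPrime C.pt.asIdeal ≃+* X.presheaf.stalk x,
    ∀ c, e (algebraMap k _ c) = @Curv2.stalkMap k _ X ⟨sX⟩ x c := by
  obtain ⟨R, j, hj, p, hp⟩ := C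
  subst hp
  exact exists_stalk_equiv sX R j hj p

variable (L : Type u) [Field L] [Algebra k L]

/-- Points over `x` in the base change correspond to primes over the point of the chart, with the same
local rings. -/
theorem Chart.exists_point :
    ∃ m : Spec (CommRingCat.of (L ⊗[k] C.R)) ⟶ pullback sX (Spec.map (CommRingCat.ofHom (algebraMap k L))),
      IsOpenImmersion m ∧
      m ≫ pullback.snd _ _ = Spec.map (CommRingCat.ofHom (algebraMap L (L ⊗[k] C.R))) ∧
      (∀ q : PrimeSpectrum (L ⊗[k] C.R), pullback.fst sX (Spec.map (CommRingCat.ofHom (algebraMap k L))) (m q) = x ↔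
        C.pt.asIdeal = q.asIdeal.comap (algebraMap C.R (L ⊗[k] C.R))) ∧
      ∀ z, pullback.fst sX (Spec.map (CommRingCat.ofHom (algebraMap k L))) z = x → z ∈ Set.range m := by
  let g := Spec.map (CommRingCat.ofHom (algebraMap k L))
  let T := L ⊗[k] C.R
  have sq : IsPullback (Spec.map (CommRingCat.ofHom (algebraMap C.R T)))
      (Spec.map (CommRingCat.ofHom (algebraMap L T))) (Spec.map (CommRingCat.ofHom (algebraMap k C.R))) g :=
    isPullback_SpecMap_of_isPushout _ _ _ _
      (CommRingCat.isPushout_iff_isPushout.mpr (Algebra.IsPushout.symm (inferInstance : Algebra.IsPushout k L C.R T)))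
  let ι := Spec.map (CommRingCat.ofHom (algebraMap C.R T))
  let m : Spec (CommRingCat.of T) ⟶ pullback sX g :=
    pullback.lift (ι ≫ C.j) (Spec.map (CommRingCat.ofHom (algebraMap L T))) (by
      rw [Category.assoc, C.hj]; exact sq.w)
  have hm : IsPullback ι m C.j (pullback.fst sX g) :=
    IsPullback.of_bot (by rw [pullback.lift_snd, C.hj]; exact sq) (pullback.lift_fst _ _ _).symm
      (IsPullback.of_hasPullback sX g)
  refine ⟨m, MorphismProperty.of_isPullback hm inferInstance, pullback.lift_snd _ _ _, fun q => ?_, fun z hz => ?_⟩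
  · rw [← Scheme.Hom.comp_apply, show m ≫ pullback.fst sX g = ι ≫ C.j from pullback.lift_fst _ _ _,
      Scheme.Hom.comp_apply]
    constructor
    · intro h
      exact (congrArg PrimeSpectrum.asIdeal (C.j.isOpenEmbedding.injective (h.trans C.hpt.symm))).symm
    · intro h
      rw [show ι q = C.pt from PrimeSpectrum.ext h.symm, C.hpt]
  · obtain ⟨w, -, hw⟩ := Scheme.exists_preimage_of_isPullback hm C.pt z (C.hpt.trans hz.symm)
    exact ⟨w, hw⟩

theorem Chart.exists_prime (z : (pullback sX (Spec.map (CommRingCat.ofHom (algebraMap k L))) :))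
    (hz : pullback.fst sX (Spec.map (CommRingCat.ofHom (algebraMap k L))) z = x) :
    ∃ (Q : Ideal (L ⊗[k] C.R)) (_ : Q.IsPrime), C.pt.asIdeal = Q.comap (algebraMap C.R (L ⊗[k] C.R)) ∧
      (∃ e : Localization.AtPrime Q ≃+* (pullback sX (Spec.map (CommRingCat.ofHom (algebraMap k L)))).presheaf.stalk z,
        ∀ c, e (algebraMap L _ c) = @Curv2.stalkMap L _ _ ⟨pullback.snd _ _⟩ z c) ∧
      (IsClosed ({z} : Set (pullback sX (Spec.map (CommRingCat.ofHom (algebraMap k L))) :)) → Q.IsMaximal) ∧
      (IsClosed ({x} : Set X) → Q.IsMaximal →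
        IsClosed ({z} : Set (pullback sX (Spec.map (CommRingCat.ofHom (algebraMap k L))) :))) := by
  obtain ⟨m, hm, hsnd, hiff, hrange⟩ := C.exists_point L
  obtain ⟨q, rfl⟩ := hrange z hz
  haveI := hm
  refine ⟨q.asIdeal, q.isPrime, (hiff q).1 hz, exists_stalk_equiv _ (L ⊗[k] C.R) m hsnd q, fun hcl => ?_,
    fun hx hmax => ?_⟩
  · refine (PrimeSpectrum.isClosed_singleton_iff_isMaximal q).1 ?_
    rw [show ({q} : Set (PrimeSpectrum (L ⊗[k] C.R))) = m ⁻¹' {m q} from
      by ext w; exact ⟨fun h => congrArg m h, fun h => m.isOpenEmbedding.injective h⟩]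
    exact hcl.preimage m.continuous
  · refine isClosed_of_closure_subset fun w hw => ?_
    have hs : m q ⤳ w := specializes_iff_mem_closure.mpr hw
    set a := pullback.fst sX (Spec.map (CommRingCat.ofHom (algebraMap k L)))
    obtain ⟨w', rfl⟩ := hrange w ((hs.map a.continuous).mem_closed hx hz)
    have hs' : q ⤳ w' := (m.isOpenEmbedding.isInducing.specializes_iff).1 hs
    exact congrArg m (((PrimeSpectrum.isClosed_singleton_iff_isMaximal q).2 hmax).closure_eq.le
      (specializes_iff_mem_closure.1 hs') : w' = q)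

end GrothLib.NodeEt
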