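import Groth.Agent.Lib.NodeEt.Form
import Groth.Agent.Lib.NodeEt.Basic
import Mathlib.RingTheory.AdicCompletion.Noetherian
import Mathlib.RingTheory.AdicCompletion.AsTensorProduct
import Mathlib.Tactic.FieldSimp

/-!
# Node forms of complete local rings
-/

set_option autoImplicit false
set_option linter.all false
set_option backward.isDefEq.respectTransparency false

universe u

open IsLocalRing

noncomputable section

namespace GrothLib.NodeEt

variable (κ : Type u) [Field κ]

/-- The standard node with constants `a`, `b`, `c`. -/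
abbrev quadSeries (a b c : κ) : MvPowerSeries (Fin 2) κ :=
  MvPowerSeries.C a * MvPowerSeries.X 0 ^ 2 + MvPowerSeries.C b * (MvPowerSeries.X 0 * MvPowerSeries.X 1) +
    MvPowerSeries.C c * MvPowerSeries.X 1 ^ 2

variable {κ}

local notation "PP" => MvPowerSeries (Fin 2) κ

theorem spanX : maximalIdeal PP = Ideal.span {MvPowerSeries.X 0, MvPowerSeries.X 1} := by
  rw [← GrothLib.RegLoc.PS.span_X κ]
  congr 1
  ext f
  simp [Fin.exists_fin_two, eq_comm]

theorem quadSeries_mem (a b c : κ) : quadSeries κ a b c ∈ maximalIdeal PP ^ 2 := by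
  have h : ∀ i : Fin 2, (MvPowerSeries.X i : PP) ∈ maximalIdeal PP := fun i => GrothLib.RegLoc.PS.X_mem κ i
  refine add_mem (add_mem (Ideal.mul_mem_left _ _ ?_) (Ideal.mul_mem_left _ _ ?_)) (Ideal.mul_mem_left _ _ ?_)
  · exact Ideal.pow_mem_pow (h 0) 2
  · rw [pow_two]; exact Ideal.mul_mem_mul (h 0) (h 1)
  · exact Ideal.pow_mem_pow (h 1) 2

instance nontrivial_standard (a b c : κ) : Nontrivial (PP ⧸ Ideal.span {quadSeries κ a b c}) :=
  Ideal.Quotient.nontrivial_iff.2 fun h => (maximalIdeal.isMaximal PP).ne_top (top_le_iff.1 (h ▸ (Ideal.span_le.2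
    (Set.singleton_subset_iff.2 (Ideal.pow_le_self two_ne_zero (quadSeries_mem a b c))))))

instance isLocalRing_standard (a b c : κ) : IsLocalRing (PP ⧸ Ideal.span {quadSeries κ a b c}) :=
  IsLocalRing.of_surjective' _ Ideal.Quotient.mk_surjective

theorem lev_powerSeries (n : ℕ) : lev PP n = (((n + 1).choose 2 : ℕ) : ℕ∞) := by
  rcases n with _ | n
  · simp [lev_zero]
  · have hd : ringKrullDim PP = (2 : ℕ) := by
      refine le_antisymm ?_ (GrothLib.RegLoc.PS.natCast_le_ringKrullDim κ 2)
      refine (ringKrullDim_le_spanFinrank_maximalIdeal PP).trans ?_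
      rw [Nat.cast_le, spanX]
      refine (Submodule.spanFinrank_span_le_ncard_of_finite (Set.toFinite _)).trans ?_
      exact (Set.ncard_insert_le _ _).trans (by simp)
    rw [lev, GrothLib.HilbSam.length_quotient_maximalIdeal_pow hd (n + 1) (by omega)]
    congr 2

/-- The standard node has node form. -/
theorem nodeForm_standard (a b c : κ) (hd : b ^ 2 - 4 * a * c ≠ 0) :
    NodeForm (PP ⧸ Ideal.span {quadSeries κ a b c}) := by
  set q := quadSeries κ a b c with hqdef
  set T := PP ⧸ Ideal.span {q} with hT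
  let π : PP →+* T := Ideal.Quotient.mk _
  have hπ : Function.Surjective π := Ideal.Quotient.mk_surjective
  have hmax : maximalIdeal T = (maximalIdeal PP).map π :=
    (IsLocalRing.map_maximalIdeal_of_surjective π hπ).symm
  have hm : maximalIdeal T = Ideal.span {π (MvPowerSeries.X 0), π (MvPowerSeries.X 1)} := by
    rw [hmax, spanX, Ideal.map_span, Set.image_pair]
  have hdu : IsUnit (π (MvPowerSeries.C b) ^ 2 - 4 * π (MvPowerSeries.C a) * π (MvPowerSeries.C c)) := by
    convert (isUnit_iff_ne_zero.2 hd).map (π.comp MvPowerSeries.C) using 1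
    simp only [map_sub, map_mul, map_pow, map_ofNat, RingHom.comp_apply]
  have hq0 : π (MvPowerSeries.C a) * π (MvPowerSeries.X 0) ^ 2 +
      π (MvPowerSeries.C b) * (π (MvPowerSeries.X 0) * π (MvPowerSeries.X 1)) +
      π (MvPowerSeries.C c) * π (MvPowerSeries.X 1) ^ 2 = 0 := by
    simp only [← map_pow, ← map_mul, ← map_add]
    exact Ideal.Quotient.eq_zero_iff_mem.2 (Ideal.mem_span_singleton_self _)
  refine ⟨fun n => le_antisymm (lev_le hm hdu (hq0 ▸ zero_mem _) n) ?_, _, _, _, _, _, hm, hdu,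
    hq0 ▸ zero_mem _⟩
  rcases n with _ | _ | n
  · simp
  · simp [lev_one]
  -- compare with the power series ring
  have hle : maximalIdeal PP ^ (n + 2) ≤ Ideal.span {q} ⊔ maximalIdeal PP ^ (n + 2) := le_sup_right
  have hcomap : ((maximalIdeal T) ^ (n + 2)).comap π = Ideal.span {q} ⊔ maximalIdeal PP ^ (n + 2) := by
    rw [hmax, ← Ideal.map_pow, Ideal.comap_map_of_surjective π hπ, sup_comm, ← RingHom.ker_eq_comap_bot,
      Ideal.mk_ker]
  have hlev : lev T (n + 2) = Module.length PP (PP ⧸ (Ideal.span {q} ⊔ maximalIdeal PP ^ (n + 2))) := by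
    rw [lev, ← Module.length_eq_of_surjective (R := T) (S := PP) (M := T ⧸ maximalIdeal T ^ (n + 2)) hπ]
    let f : PP →ₗ[PP] T ⧸ maximalIdeal T ^ (n + 2) :=
      ((Submodule.mkQ (maximalIdeal T ^ (n + 2))).restrictScalars PP).comp (Algebra.linearMap PP T)
    have hf : Function.Surjective f := (Submodule.mkQ_surjective _).comp hπ
    have hk : LinearMap.ker f = Ideal.span {q} ⊔ maximalIdeal PP ^ (n + 2) := by
      rw [← hcomap]
      ext x
      exact Submodule.Quotient.mk_eq_zero _
    rw [← (LinearMap.quotKerEquivOfSurjective f hf).length_eq, (Submodule.quotEquivOfEq _ _ hk).length_eq]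
  let μ : (PP ⧸ maximalIdeal PP ^ n) →ₗ[PP] PP ⧸ maximalIdeal PP ^ (n + 2) :=
    Submodule.mapQ _ _ (LinearMap.mulLeft PP q) (fun x hx => by
      rw [Submodule.mem_comap, LinearMap.mulLeft_apply, add_comm n 2, pow_add]
      exact Ideal.mul_mem_mul (quadSeries_mem a b c) hx)
  let ν : (PP ⧸ maximalIdeal PP ^ (n + 2)) →ₗ[PP] PP ⧸ (Ideal.span {q} ⊔ maximalIdeal PP ^ (n + 2)) :=
    Submodule.factor hle
  have hex : LinearMap.ker ν ≤ LinearMap.range μ := by
    intro x hx
    obtain ⟨y, rfl⟩ := Submodule.Quotient.mk_surjective _ x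
    have hy : y ∈ Ideal.span {q} ⊔ maximalIdeal PP ^ (n + 2) := (Submodule.Quotient.mk_eq_zero _).1 hx
    obtain ⟨z, hz, w, hw, rfl⟩ := Submodule.mem_sup.1 hy
    obtain ⟨t, rfl⟩ := Ideal.mem_span_singleton'.1 hz
    refine ⟨Submodule.Quotient.mk t, ?_⟩
    show Submodule.Quotient.mk (q * t) = _
    rw [Submodule.Quotient.eq]
    simpa [mul_comm q t] using neg_mem hw
  have h1 : Module.length PP (LinearMap.ker ν) ≤ lev PP n :=
    (Module.length_le_of_injective (Submodule.inclusion hex) (Submodule.inclusion_injective hex)).trans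
      (Module.length_le_of_surjective μ.rangeRestrict μ.surjective_rangeRestrict)
  have h2 : lev PP (n + 2) = Module.length PP (LinearMap.ker ν) + lev T (n + 2) := by
    rw [hlev]
    exact Module.length_eq_add_of_exact (LinearMap.ker ν).subtype ν Subtype.coe_injective
      (Submodule.factor_surjective hle) (LinearMap.exact_subtype_ker_map _)
  have h3 : lev PP (n + 2) ≤ lev PP n + lev T (n + 2) := h2.le.trans (add_le_add h1 le_rfl)
  rw [lev_powerSeries, lev_powerSeries] at h3
  show ((2 * (n + 2) - 1 : ℕ) : ℕ∞) ≤ lev T (n + 2)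
  rcases hT' : lev T (n + 2) with _ | m
  · exact le_top
  · rw [hT'] at h3
    change ((_ : ℕ) : ℕ∞) ≤ (_ : ℕ∞) + (m : ℕ∞) at h3
    rw [← Nat.cast_add, Nat.cast_le] at h3
    show ((2 * (n + 2) - 1 : ℕ) : ℕ∞) ≤ (m : ℕ∞)
    rw [Nat.cast_le]
    simp only [Nat.choose_succ_succ', Nat.choose_one_right, Nat.choose_zero_right, Nat.reduceAdd] at h3
    omega

theorem NodeForm.of_ringEquiv {A B : Type u} [CommRing A] [IsLocalRing A] [CommRing B] [IsLocalRing B]
    (e : A ≃+* B) (h : NodeForm A) : NodeForm B := by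
  algebraize [e.toRingHom]
  haveI : Module.Flat A B := RingHom.flat_algebraMap_iff.1 (RingHom.Flat.of_bijective e.bijective)
  exact h.of_flat (IsLocalRing.map_maximalIdeal_of_surjective _ e.surjective)

theorem nodeForm_completion_iff (A : Type u) [CommRing A] [IsLocalRing A] [IsNoetherianRing A] :
    NodeForm (AdicCompletion (maximalIdeal A) A) ↔ NodeForm A := by
  have hm : (maximalIdeal A).map (algebraMap A (AdicCompletion (maximalIdeal A) A)) =
      maximalIdeal (AdicCompletion (maximalIdeal A) A) := AdicCompletion.maximalIdeal_eq_map.symm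
  haveI : Module.Flat A (AdicCompletion (maximalIdeal A) A) := AdicCompletion.flat_of_isNoetherian _
  exact ⟨fun h => h.descend hm, fun h => h.of_flat hm⟩

section normal

variable {S : Type u} [CommRing S] [IsLocalRing S] [IsNoetherianRing S] [IsAdicComplete (maximalIdeal S) S]

/-- A nondegenerate relation modulo cubes lifts to an exact one. -/
theorem exists_exact_relation {u v a b c : S} (hm : maximalIdeal S = Ideal.span {u, v})
    (hd : IsUnit (b ^ 2 - 4 * a * c)) (hq : a * u ^ 2 + b * (u * v) + c * v ^ 2 ∈ maximalIdeal S ^ 3) :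
    ∃ u' v' : S, maximalIdeal S = Ideal.span {u', v'} ∧ a * u' ^ 2 + b * (u' * v') + c * v' ^ 2 = 0 := by
  set m := maximalIdeal S with hmdef
  let q : S → S → S := fun x y => a * x ^ 2 + b * (x * y) + c * y ^ 2
  have hgen : ∀ x y : S, x - u ∈ m ^ 2 → y - v ∈ m ^ 2 → m = Ideal.span {x, y} := by
    intro x y hx hy
    have hum : u ∈ m := hm ▸ Ideal.subset_span (by simp)
    have hvm : v ∈ m := hm ▸ Ideal.subset_span (by simp)
    refine le_antisymm ?_ (Ideal.span_le.2 ?_)
    · refine Submodule.le_of_le_smul_of_le_jacobson_bot (IsNoetherian.noetherian _)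
        (IsLocalRing.maximalIdeal_le_jacobson _) ?_
      rw [smul_eq_mul, ← pow_two]
      conv_lhs => rw [hm]
      rw [Ideal.span_le]
      rintro z (rfl | rfl)
      · rw [show z = x + -(x - z) by ring]
        exact add_mem (Ideal.mem_sup_left (Ideal.subset_span (by simp))) (Ideal.mem_sup_right (neg_mem hx))
      · rw [show z = y + -(y - z) by ring]
        exact add_mem (Ideal.mem_sup_left (Ideal.subset_span (by simp))) (Ideal.mem_sup_right (neg_mem hy))
    · rintro z (rfl | rfl)
      · simpa using add_mem (Ideal.pow_le_self two_ne_zero hx) hum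
      · simpa using add_mem (Ideal.pow_le_self two_ne_zero hy) hvm
  let P : ℕ → S × S → Prop := fun n p => p.1 - u ∈ m ^ 2 ∧ p.2 - v ∈ m ^ 2 ∧ q p.1 p.2 ∈ m ^ (n + 3)
  have hstep : ∀ n p, P n p → ∃ p', P (n + 1) p' ∧ p'.1 - p.1 ∈ m ^ (n + 2) ∧ p'.2 - p.2 ∈ m ^ (n + 2) := by
    rintro n ⟨x, y⟩ ⟨hx, hy, hz⟩
    have hxy := hgen x y hx hy
    set L₁ := 2 * a * x + b * y
    set L₂ := b * x + 2 * c * y
    have hL : m ≤ Ideal.span {L₁, L₂} := by
      obtain ⟨d, hd'⟩ := hd
      have hinv : (↑d⁻¹ : S) * (b ^ 2 - 4 * a * c) = 1 := by rw [← hd']; exact Units.inv_mul d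
      conv_lhs => rw [hxy]
      rw [Ideal.span_le]
      rintro z (rfl | rfl)
      · exact Ideal.mem_span_pair.2 ⟨-(↑d⁻¹ * (2 * c)), ↑d⁻¹ * b, by linear_combination z * hinv⟩
      · exact Ideal.mem_span_pair.2 ⟨↑d⁻¹ * b, -(↑d⁻¹ * (2 * a)), by linear_combination z * hinv⟩
    obtain ⟨δ, hδ, ε, hε, he⟩ : ∃ δ ∈ m ^ (n + 2), ∃ ε ∈ m ^ (n + 2), q x y = δ * L₁ + ε * L₂ := by
      have h1 : q x y ∈ m ^ (n + 2) * Ideal.span {L₁, L₂} :=
        Ideal.mul_mono le_rfl hL (by rwa [← pow_succ])
      generalize q x y = w at h1 ⊢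
      induction h1 using Submodule.mul_induction_on' with
      | mem_mul_mem s hs t ht =>
        obtain ⟨p, r, rfl⟩ := Ideal.mem_span_pair.1 ht
        exact ⟨s * p, Ideal.mul_mem_right _ _ hs, s * r, Ideal.mul_mem_right _ _ hs, by ring⟩
      | add s _ t _ hs ht =>
        obtain ⟨δ, hδ, ε, hε, rfl⟩ := hs
        obtain ⟨δ', hδ', ε', hε', rfl⟩ := ht
        exact ⟨δ + δ', add_mem hδ hδ', ε + ε', add_mem hε hε', by ring⟩
    refine ⟨(x - δ, y - ε), ⟨?_, ?_, ?_⟩, by simpa using hδ, by simpa using hε⟩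
    · rw [show x - δ - u = (x - u) - δ by ring]
      exact sub_mem hx (Ideal.pow_le_pow_right (by omega) hδ)
    · rw [show y - ε - v = (y - v) - ε by ring]
      exact sub_mem hy (Ideal.pow_le_pow_right (by omega) hε)
    · have : q (x - δ) (y - ε) = a * δ ^ 2 + b * (δ * ε) + c * ε ^ 2 := by
        simp only [q, L₁, L₂] at he ⊢
        linear_combination he
      rw [this]
      have hpow : ∀ s ∈ m ^ (n + 2), ∀ t ∈ m ^ (n + 2), s * t ∈ m ^ (n + 1 + 3) := fun s hs t ht =>
        Ideal.pow_le_pow_right (by omega : n + 1 + 3 ≤ (n + 2) + (n + 2))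
          (by rw [pow_add]; exact Ideal.mul_mem_mul hs ht)
      rw [pow_two, pow_two]
      exact add_mem (add_mem (Ideal.mul_mem_left _ _ (hpow _ hδ _ hδ)) (Ideal.mul_mem_left _ _ (hpow _ hδ _ hε)))
        (Ideal.mul_mem_left _ _ (hpow _ hε _ hε))
  choose! next hnext using hstep
  let s : ℕ → S × S := fun n => Nat.rec (u, v) (fun k t => next k t) n
  have hs : ∀ n, P n (s n) := fun n => by
    induction n with
    | zero => exact ⟨by simp [s], by simp [s], hq⟩
    | succ n ih => exact (hnext n _ ih).1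
  have lim : ∀ x : ℕ → S, (∀ n, x (n + 1) - x n ∈ m ^ (n + 2)) → ∃ L, ∀ n, L - x n ∈ m ^ n := by
    intro x hx
    have hx' : ∀ {i j : ℕ}, i ≤ j → x j - x i ∈ m ^ i := by
      intro i j hij
      induction hij with
      | refl => simp
      | @step k hk ih =>
        have := add_mem (Ideal.pow_le_pow_right (le_trans (Nat.le.step hk) (by omega) : i ≤ k + 2) (hx k)) ih
        simpa using this
    obtain ⟨L, hL⟩ := IsPrecomplete.prec (I := m) inferInstance (f := x) fun {i j} hij => by
      rw [SModEq.sub_mem, smul_eq_mul, Ideal.mul_top]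
      simpa using neg_mem (hx' hij)
    refine ⟨L, fun n => ?_⟩
    have := hL n
    rw [SModEq.sub_mem, smul_eq_mul, Ideal.mul_top] at this
    simpa using neg_mem this
  obtain ⟨u', hu'⟩ := lim (fun n => (s n).1) fun n => (hnext n _ (hs n)).2.1
  obtain ⟨v', hv'⟩ := lim (fun n => (s n).2) fun n => (hnext n _ (hs n)).2.2
  refine ⟨u', v', hgen u' v' ?_ ?_, ?_⟩
  · simpa using add_mem (hu' 2) (hs 2).1
  · simpa using add_mem (hv' 2) (hs 2).2.1
  refine IsHausdorff.haus (I := m) inferInstance _ fun n => ?_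
  rw [SModEq.sub_mem, sub_zero, smul_eq_mul, Ideal.mul_top]
  have key : a * u' ^ 2 + b * (u' * v') + c * v' ^ 2 = q (s n).1 (s n).2 +
      (u' - (s n).1) * (a * (u' + (s n).1) + b * v') + (v' - (s n).2) * (b * (s n).1 + c * (v' + (s n).2)) := by
    simp only [q]; ring
  rw [key]
  exact add_mem (add_mem (Ideal.pow_le_pow_right (by omega) (hs n).2.2) (Ideal.mul_mem_right _ _ (hu' n)))
    (Ideal.mul_mem_right _ _ (hv' n))

/-- Complete node forms with a coefficient field are standard nodes. -/
theorem exists_equiv_standard (σ : κ →+* S) (hσ : Function.Surjective ((residue S).comp σ)) (h : NodeForm S)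
    {u v : S} (hm : maximalIdeal S = Ideal.span {u, v}) {a b c : κ} (hd : b ^ 2 - 4 * a * c ≠ 0)
    (hq : σ a * u ^ 2 + σ b * (u * v) + σ c * v ^ 2 ∈ maximalIdeal S ^ 3) :
    ∃ e : (PP ⧸ Ideal.span {quadSeries κ a b c}) ≃+* S,
      ∀ t, e (Ideal.Quotient.mk _ (MvPowerSeries.C t)) = σ t := by
  have hd' : IsUnit (σ b ^ 2 - 4 * σ a * σ c) := by
    convert (isUnit_iff_ne_zero.2 hd).map σ using 1
    simp only [map_sub, map_mul, map_pow, map_ofNat]
  obtain ⟨u', v', hm', hq'⟩ := exists_exact_relation hm hd' hq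
  letI : Algebra κ S := σ.toAlgebra
  have hmem : ∀ i, ![u', v'] i ∈ maximalIdeal S := by
    rw [Fin.forall_fin_two, hm']
    exact ⟨Ideal.subset_span (by simp), Ideal.subset_span (by simp)⟩
  obtain ⟨ψ, hψ⟩ := GrothLib.RegLoc.PS.exists_algHom (A := κ) (maximalIdeal S) ![u', v'] hmem
  have h0 : ψ (MvPowerSeries.X 0) = u' := hψ 0
  have h1 : ψ (MvPowerSeries.X 1) = v' := hψ 1
  have hC : ∀ t, ψ (MvPowerSeries.C t) = σ t := fun t => by
    rw [← RingHom.algebraMap_toAlgebra σ, ← ψ.commutes t, MvPowerSeries.algebraMap_apply,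
      Algebra.algebraMap_self_apply]
  have hsurj : Function.Surjective ψ := GrothLib.RegLoc.PS.surjective hσ ψ (by
    rw [hm']
    congr 1
    ext x
    simp [Fin.exists_fin_two, h0, h1, eq_comm])
  have hker : ∀ f ∈ Ideal.span {quadSeries κ a b c}, ψ f = 0 := fun f hf => by
    obtain ⟨t, rfl⟩ := Ideal.mem_span_singleton'.1 hf
    simp only [map_mul, map_add, map_pow, hC, h0, h1]
    rw [hq', mul_zero]
  let φ : (PP ⧸ Ideal.span {quadSeries κ a b c}) →+* S := Ideal.Quotient.lift _ ψ.toRingHom hker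
  have hφ : Function.Surjective φ := fun x => by
    obtain ⟨f, rfl⟩ := hsurj x
    exact ⟨Ideal.Quotient.mk _ f, rfl⟩
  set T := PP ⧸ Ideal.span {quadSeries κ a b c}
  have hT : NodeForm T := nodeForm_standard a b c hd
  have hinj : ∀ n x, φ x ∈ maximalIdeal S ^ n → x ∈ maximalIdeal T ^ n := by
    intro n x hx
    letI : Algebra T S := φ.toAlgebra
    have hmap : (maximalIdeal T).map φ = maximalIdeal S := IsLocalRing.map_maximalIdeal_of_surjective φ hφ
    let F : T →ₗ[T] S ⧸ maximalIdeal S ^ n :=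
      ((Submodule.mkQ (maximalIdeal S ^ n)).restrictScalars T).comp (Algebra.linearMap T S)
    have hF : Function.Surjective F := (Submodule.mkQ_surjective _).comp hφ
    have hle : maximalIdeal T ^ n ≤ LinearMap.ker F := fun y hy => by
      refine (Submodule.Quotient.mk_eq_zero _).2 ?_
      rw [← hmap, ← Ideal.map_pow]
      exact Ideal.mem_map_of_mem _ hy
    let G : (T ⧸ maximalIdeal T ^ n) →ₗ[T] S ⧸ maximalIdeal S ^ n := Submodule.liftQ _ F hle
    have hG : Function.Surjective G := fun y => by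
      obtain ⟨t, rfl⟩ := hF y
      exact ⟨Submodule.Quotient.mk t, rfl⟩
    have hlen : Module.length T (S ⧸ maximalIdeal S ^ n) = lev S n :=
      Module.length_eq_of_surjective (R := S) (S := T) hφ
    have hadd := Module.length_eq_add_of_exact (LinearMap.ker G).subtype G Subtype.coe_injective hG
      (LinearMap.exact_subtype_ker_map _)
    rw [hlen, h.1, show Module.length T (T ⧸ maximalIdeal T ^ n) = _ from hT.1 n] at hadd
    have h0 : Module.length T (LinearMap.ker G) = 0 :=
      ENat.add_left_injective_of_ne_top (ENat.coe_ne_top _) (hadd.symm.trans (zero_add _).symm)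
    rw [Module.length_eq_zero_iff, Submodule.subsingleton_iff_eq_bot] at h0
    have hxG : Submodule.Quotient.mk x ∈ LinearMap.ker G := (Submodule.Quotient.mk_eq_zero _).2 hx
    rw [h0, Submodule.mem_bot, Submodule.Quotient.mk_eq_zero] at hxG
    exact hxG
  have hinj' : Function.Injective φ := by
    rw [injective_iff_map_eq_zero]
    intro x hx
    refine IsHausdorff.haus (I := maximalIdeal T) inferInstance _ fun n => ?_
    rw [SModEq.sub_mem, sub_zero, smul_eq_mul, Ideal.mul_top]
    exact hinj n x (by rw [hx]; exact zero_mem _)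
  exact ⟨RingEquiv.ofBijective φ ⟨hinj', hφ⟩, fun t => hC t⟩

/-- Complete node forms with a coefficient field, constants chosen. -/
theorem exists_standard (σ : κ →+* S) (hσ : Function.Surjective ((residue S).comp σ)) (h : NodeForm S) :
    ∃ a b c : κ, b ^ 2 - 4 * a * c ≠ 0 ∧ ∃ e : (PP ⧸ Ideal.span {quadSeries κ a b c}) ≃+* S,
      ∀ t, e (Ideal.Quotient.mk _ (MvPowerSeries.C t)) = σ t := by
  obtain ⟨u, v, a', b', c', hm, hd, hq⟩ := h.2
  obtain ⟨a, ha⟩ := hσ (residue S a')
  obtain ⟨b, hb⟩ := hσ (residue S b')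
  obtain ⟨c, hc⟩ := hσ (residue S c')
  simp only [RingHom.comp_apply] at ha hb hc
  have hd0 : b ^ 2 - 4 * a * c ≠ 0 := fun h0 => by
    have h1 := congrArg ((residue S).comp σ) h0
    simp only [map_sub, map_mul, map_pow, map_ofNat, RingHom.comp_apply, ha, hb, hc, map_zero] at h1
    refine (IsLocalRing.mem_maximalIdeal _).1 ((residue_eq_zero_iff _).1 ?_) hd
    simpa only [map_sub, map_mul, map_pow, map_ofNat] using h1
  have hu : u ∈ maximalIdeal S := hm ▸ Ideal.subset_span (by simp)
  have hv : v ∈ maximalIdeal S := hm ▸ Ideal.subset_span (by simp)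
  refine ⟨a, b, c, hd0, exists_equiv_standard σ hσ h hm hd0 ?_⟩
  rw [show σ a * u ^ 2 + σ b * (u * v) + σ c * v ^ 2 = (a' * u ^ 2 + b' * (u * v) + c' * v ^ 2) +
    (σ a - a') * u ^ 2 + (σ b - b') * (u * v) + (σ c - c') * v ^ 2 by ring]
  have key : ∀ s z : S, residue S s = 0 → z ∈ maximalIdeal S ^ 2 → s * z ∈ maximalIdeal S ^ 3 := by
    intro s z hs hz
    rw [pow_succ' _ 2]
    exact Ideal.mul_mem_mul ((residue_eq_zero_iff _).1 hs) hz
  exact add_mem (add_mem (add_mem hq (key _ _ (by rw [map_sub, ha, sub_self]) (Ideal.pow_mem_pow hu 2)))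
    (key _ _ (by rw [map_sub, hb, sub_self]) (by rw [pow_two]; exact Ideal.mul_mem_mul hu hv)))
    (key _ _ (by rw [map_sub, hc, sub_self]) (Ideal.pow_mem_pow hv 2))

end normal

/-- Over an algebraically closed field some pair of generators multiplies into the cube. -/
theorem exists_split {K : Type u} [Field K] [IsAlgClosed K] {S : Type u} [CommRing S] [Algebra K S]
    {M : Ideal S} {u v : S} (hm : M = Ideal.span {u, v}) {a b c : K} (hd : b ^ 2 - 4 * a * c ≠ 0)
    (hq : algebraMap K S a * u ^ 2 + algebraMap K S b * (u * v) + algebraMap K S c * v ^ 2 ∈ M ^ 3) :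
    ∃ x y : S, M = Ideal.span {x, y} ∧ x * y ∈ M ^ 3 := by
  set f := algebraMap K S
  by_cases ha : a = 0
  · subst ha
    have hb : b ≠ 0 := fun h => hd (by simp [h])
    refine ⟨v, f b * u + f c * v, hm.trans (le_antisymm ?_ ?_), ?_⟩
    · rw [Ideal.span_le]
      rintro z (rfl | rfl)
      · refine Ideal.mem_span_pair.2 ⟨-(f (b⁻¹ * c)), f b⁻¹, ?_⟩
        have : f b⁻¹ * f b = 1 := by rw [← map_mul, inv_mul_cancel₀ hb, map_one]
        rw [map_mul]
        linear_combination z * this
      · exact Ideal.subset_span (by simp)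
    · rw [Ideal.span_le]
      rintro z (rfl | rfl)
      · exact Ideal.subset_span (by simp)
      · exact Ideal.mem_span_pair.2 ⟨f b, f c, rfl⟩
    · convert hq using 1
      rw [map_zero]; ring
  · obtain ⟨t, ht⟩ := IsAlgClosed.exists_root (Polynomial.C a * Polynomial.X ^ 2 + Polynomial.C b * Polynomial.X +
      Polynomial.C c) (by rw [Polynomial.degree_quadratic ha]; norm_num)
    simp only [Polynomial.IsRoot.def, Polynomial.eval_add, Polynomial.eval_mul, Polynomial.eval_C,
      Polynomial.eval_pow, Polynomial.eval_X] at ht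
    set t' := -(b / a) - t with ht'
    have e1 : a * (-t - t') = b := by rw [ht']; field_simp; ring
    have e2 : a * (t * t') = c := by
      rw [ht']
      have : a * (t * (-(b / a) - t)) = -(b * t) - a * t ^ 2 := by field_simp
      linear_combination this - ht
    have hne : t' - t ≠ 0 := fun h => hd (by
      have : t' = t := sub_eq_zero.1 h
      rw [← e1, ← e2, this]; ring)
    refine ⟨u - f t * v, u - f t' * v, hm.trans (le_antisymm ?_ ?_), ?_⟩
    · rw [Ideal.span_le]
      have : f (t' - t)⁻¹ * (f t' - f t) = 1 := by rw [← map_sub, ← map_mul, inv_mul_cancel₀ hne, map_one]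
      rintro z (rfl | rfl)
      · exact Ideal.mem_span_pair.2 ⟨f (t' - t)⁻¹ * f t', -(f (t' - t)⁻¹ * f t), by linear_combination z * this⟩
      · exact Ideal.mem_span_pair.2 ⟨f (t' - t)⁻¹, -f (t' - t)⁻¹, by linear_combination z * this⟩
    · rw [Ideal.span_le]
      rintro z (rfl | rfl)
      · exact Ideal.mem_span_pair.2 ⟨1, -f t, by ring⟩
      · exact Ideal.mem_span_pair.2 ⟨1, -f t', by ring⟩
    · have := Ideal.mul_mem_left _ (f a⁻¹) hq
      convert this using 1
      rw [← e1, ← e2]
      have hi : f a⁻¹ * f a = 1 := by rw [← map_mul, inv_mul_cancel₀ ha, map_one]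
      simp only [map_mul, map_sub, map_neg]
      linear_combination (-(u - f t * v) * (u - f t' * v)) * hi

theorem quadSeries_split (K : Type u) [Field K] :
    Ideal.span {quadSeries K 0 1 0} =
      Ideal.span {(MvPowerSeries.X 0 * MvPowerSeries.X 1 : MvPowerSeries (Fin 2) K)} := by
  simp [quadSeries]

/-- Over an algebraically closed residue field the ordinary double points are the node forms. -/
theorem isOrdDoublePt_iff_nodeForm {K : Type u} [Field K] [IsAlgClosed K] {A : Type u} [CommRing A] [Algebra K A]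
    [IsLocalRing A] [IsNoetherianRing A] (hres : ∀ a : A, ∃ t : K, algebraMap K A t - a ∈ maximalIdeal A) :
    Curv2.IsOrdDoublePt K A ↔ NodeForm A := by
  rw [← nodeForm_completion_iff A]
  set S := AdicCompletion (maximalIdeal A) A
  constructor
  · rintro ⟨e, -⟩
    exact (nodeForm_standard 0 1 0 (by simp)).of_ringEquiv
      ((Ideal.quotEquivOfEq (quadSeries_split K)).trans e.symm)
  · intro h
    haveI : IsAdicComplete (maximalIdeal S) S := by
      rw [AdicCompletion.maximalIdeal_eq_map]
      exact AdicCompletion.isAdicComplete_self _ (maximalIdeal A).fg_of_isNoetherianRing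
    let σ : K →+* S := (algebraMap A S).comp (algebraMap K A)
    have hσ : Function.Surjective ((residue S).comp σ) := fun x => by
      obtain ⟨z, rfl⟩ := (AdicCompletion.residueField_map_bijective A).2 x
      obtain ⟨a, rfl⟩ := residue_surjective z
      obtain ⟨t, ht⟩ := hres a
      refine ⟨t, ?_⟩
      rw [ResidueField.map_residue]
      refine Ideal.Quotient.eq.2 ?_
      rw [RingHom.comp_apply, ← map_sub, AdicCompletion.maximalIdeal_eq_map]
      exact Ideal.mem_map_of_mem _ ht
    obtain ⟨a, b, c, hd, e, he⟩ := exists_standard σ hσ h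
    letI : Algebra K S := σ.toAlgebra
    have hsp : maximalIdeal S = Ideal.span {e (Ideal.Quotient.mk _ (MvPowerSeries.X 0)),
        e (Ideal.Quotient.mk _ (MvPowerSeries.X 1))} := by
      rw [← IsLocalRing.map_maximalIdeal_of_surjective (e.toRingHom.comp (Ideal.Quotient.mk _))
        (e.surjective.comp Ideal.Quotient.mk_surjective), spanX, Ideal.map_span, Set.image_pair]
      rfl
    obtain ⟨x, y, hxy, hxy3⟩ := exists_split (K := K) hsp hd (by
      show σ a * _ + σ b * _ + σ c * _ ∈ _
      rw [← he, ← he, ← he]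
      have : e ((Ideal.Quotient.mk (Ideal.span {quadSeries K a b c})) (quadSeries K a b c)) = 0 := by
        rw [Ideal.Quotient.eq_zero_iff_mem.2 (Ideal.mem_span_singleton_self _), map_zero]
      simp only [quadSeries, map_add, map_mul, map_pow] at this
      rw [this]
      exact zero_mem _)
    obtain ⟨e', he'⟩ := exists_equiv_standard σ hσ h hxy (a := 0) (b := 1) (c := 0) (by simp) (by
      simpa using hxy3)
    refine ⟨e'.symm.trans (Ideal.quotEquivOfEq (quadSeries_split K)), fun t => ?_⟩
    rw [RingEquiv.trans_apply, show algebraMap A S (algebraMap K A t) = σ t from rfl, ← he',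
      RingEquiv.symm_apply_apply, Ideal.quotEquivOfEq_mk]

end GrothLib.NodeEt
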