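import Groth.Agent.Lib.NodeEt.FieldExt
import Groth.Agent.Lib.NodeEt.Family
import Groth.Agent.Lib.AlgSp.FibreDimBC
import Groth.Agent.Lib.AlgSp.FppfDescent
import Groth.Agent.Lib.LocProp.BaseChangeDescent
import Mathlib.AlgebraicGeometry.Morphisms.LocalFlatDescent

/-!
# At-worst-nodal schemes and base change
-/

set_option autoImplicit false
set_option linter.all false
set_option backward.isDefEq.respectTransparency false

universe u

open CategoryTheory Limits AlgebraicGeometry IsLocalRing

noncomputable section

namespace GrothLib.NodeEt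

/-- At-worst-nodal descends along field extensions. -/
theorem nodal_descends {k K : Type u} [Field k] [Field K] {Z Z' : Scheme.{u}}
    (p : Z ⟶ Spec (CommRingCat.of k)) [LocallyOfFiniteType p] (f : CommRingCat.of k ⟶ CommRingCat.of K)
    {i : Z' ⟶ Z} {q : Z' ⟶ Spec (CommRingCat.of K)} (h : IsPullback i q p (Spec.map f))
    (hdim : ∀ W ∈ irreducibleComponents (Z' : Type u), topologicalKrullDim W = 1)
    (hnod : @Curv2.AtWorstNodal K _ Z' ⟨q⟩) :
    (∀ W ∈ irreducibleComponents (Z : Type u), topologicalKrullDim W = 1) ∧ @Curv2.AtWorstNodal k _ Z ⟨p⟩ := by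
  haveI : LocallyOfFiniteType q := MorphismProperty.of_isPullback h inferInstance
  haveI : Surjective (Spec.map f) := surjective_specMap_field k K f.hom
  haveI : Surjective i := MorphismProperty.of_isPullback h.flip ‹Surjective (Spec.map f)›
  have hd' := (GrothLib.Equidim6.equidim_iff q 1).1 (by simpa using hdim)
  have hd : ∀ x : Z, FlatMor.localDim Z x = ((1 : ℕ) : WithBot ℕ∞) := fun x => by
    obtain ⟨x', rfl⟩ := i.surjective x
    rw [← GrothLib.AlgSp.localDim_of_field_bc p h x', hd']
  have hcomp : ∀ W ∈ irreducibleComponents (Z : Type u), topologicalKrullDim W = ((1 : ℕ) : WithBot ℕ∞) :=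
    (GrothLib.Equidim6.equidim_iff p 1).2 hd
  refine ⟨by simpa using hcomp, fun x hx => ?_⟩
  have hdim1 : topologicalKrullDim Z ≤ 1 := by
    rw [GrothLib.AffDom.topologicalKrullDim_eq_iSup_ptDim]
    refine iSup_le fun z => ?_
    obtain ⟨ζ, hζz, hζ⟩ := GrothLib.AffDom.exists_maximal_point z
    refine (GrothLib.AffDom.ptDim_mono hζz).trans ?_
    have := hcomp _ (GrothLib.Equidim6.closure_mem_components hζ)
    exact le_of_eq (this.trans (by norm_num))
  letI : Algebra k K := f.hom.toAlgebra
  rw [show f = CommRingCat.ofHom (algebraMap k K) from rfl] at h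
  -- a closed point over `x`
  haveI : JacobsonSpace Z' := LocallyOfFiniteType.jacobsonSpace q
  obtain ⟨x', hx'⟩ := i.surjective x
  obtain ⟨z, hzmem, hz⟩ := nonempty_inter_closedPoints (Z := i ⁻¹' {x}) ⟨x', hx'⟩
    (hx.preimage i.continuous).isLocallyClosed
  have hiz : i z = x := hzmem
  let e := h.isoPullback
  have he1 : e.hom ≫ pullback.fst _ _ = i := h.isoPullback_hom_fst
  have he2 : e.hom ≫ pullback.snd _ _ = q := h.isoPullback_hom_snd
  have hfst : pullback.fst p (Spec.map (CommRingCat.ofHom (algebraMap k K))) (e.hom z) = x := by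
    rw [← Scheme.Hom.comp_apply, he1, hiz]
  rcases hnod z hz with ⟨U, hzU, hU⟩ | hnode
  · refine Or.inl ?_
    haveI : IsLocallyNoetherian Z := LocallyOfFiniteType.isLocallyNoetherian p
    haveI : LocallyOfFinitePresentation p :=
      GrothLib.LocProp.locallyOfFinitePresentation_of_isLocallyNoetherian p
    have := GrothLib.LocProp.smooth_nhd_of_baseChange p (Spec.map (CommRingCat.ofHom (algebraMap k K))) (e.hom z)
      (Flat.stalkMap _ _) ⟨e.inv ⁻¹ᵁ U, by
        show e.inv (e.hom z) ∈ U
        rwa [← Scheme.Hom.comp_apply, e.hom_inv_id], by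
        have : pullback.snd p (Spec.map (CommRingCat.ofHom (algebraMap k K))) = e.inv ≫ q := by
          rw [Iso.eq_inv_comp]; exact he2
        rw [this, ← Category.assoc, ← morphismRestrict_ι, Category.assoc]
        haveI : Smooth (U.ι ≫ q) := hU
        infer_instance⟩
    rwa [hfst] at this
  · refine Or.inr ?_
    haveI : LocallyOfFiniteType (pullback.snd p (Spec.map (CommRingCat.ofHom (algebraMap k K)))) :=
      MorphismProperty.pullback_snd _ _ inferInstance
    have comm : e.hom ≫ pullback.snd p (Spec.map (CommRingCat.ofHom (algebraMap k K))) =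
        q ≫ Spec.map (CommRingCat.ofHom (algebraMap K K)) := by
      rw [he2]; erw [Spec.map_id, Category.comp_id]
    have := (isNode_iff_of_etale (k := K) (k' := K) (pullback.snd p (Spec.map (CommRingCat.ofHom (algebraMap k K))))
      q e.hom comm z).1 hnode
    rw [← hfst]
    exact (isNode_baseChange_iff p hdim1 K (e.hom z)).2 this

theorem isNodalFamily_of_fpqc {X S S' : Scheme.{u}} (f : X ⟶ S) (g : S' ⟶ S) [Flat g] [QuasiCompact g]
    [Surjective g] (h : Curv2.IsNodalFamily (pullback.snd f g)) : Curv2.IsNodalFamily f := by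
  have hg : (@Surjective ⊓ @Flat ⊓ @QuasiCompact : MorphismProperty Scheme.{u}) g :=
    ⟨⟨inferInstance, inferInstance⟩, inferInstance⟩
  have hsq : IsPullback (pullback.snd f g) (pullback.fst f g) g f := (IsPullback.of_hasPullback f g).flip
  haveI hflat : Flat f := by
    have := HasRingHomProperty.descendsAlong_flat (P := @Flat) GrothLib.AlgSp.codescendsAlong_flat
    exact MorphismProperty.of_pullback_snd_of_descendsAlong (P := @Flat) (Q := @Surjective ⊓ @Flat ⊓ @QuasiCompact) hg h.1
  haveI : LocallyOfFinitePresentation f :=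
    MorphismProperty.of_pullback_snd_of_descendsAlong (P := @LocallyOfFinitePresentation)
      (Q := @Surjective ⊓ @Flat ⊓ @QuasiCompact) hg h.2.1
  refine ⟨inferInstance, inferInstance, fun s => ?_⟩
  obtain ⟨s', rfl⟩ := g.surjective s
  obtain ⟨i, -, hi⟩ := GrothLib.FibreBC.exists_isPullback_fiber (IsPullback.of_hasPullback f g) s'
  haveI := locallyOfFiniteType_fiberTo f (g s')
  exact nodal_descends (k := S.residueField (g s')) (K := S'.residueField s') (f.fiberToSpecResidueField (g s'))
    (g.residueFieldMap s') hi (h.2.2 s').1 (h.2.2 s').2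

end GrothLib.NodeEt
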