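import Groth.Agent.Lib.NodeEt.Basic
import Groth.Agent.Lib.NodeFrob.PthClosed
import Groth.Agent.Lib.NodeNF.Basic
import Groth.Agent.Lib.CTensor.Ext
import Groth.Agent.Lib.GeomReg.FiniteGRing
import Groth.Agent.Lib.RamSam.LocalParafactorial
import Mathlib.RingTheory.PowerSeries.Inverse

/-!
# Ordinary double points and extensions of the ground field
-/

set_option autoImplicit false
set_option linter.style.haveILetI false
set_option backward.isDefEq.respectTransparency false

universe u

open IsLocalRing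
open scoped TensorProduct

noncomputable section

namespace GrothLib.NodeEt

open GrothLib.NodeFrob in
theorem axis_C {K : Type u} [CommRing K] (s : Fin 2) (c : K) :
    axis s (MvPowerSeries.C c : MvPowerSeries (Fin 2) K) = PowerSeries.C c := by
  classical
  refine PowerSeries.ext fun n => ?_
  rw [coeff_axis, MvPowerSeries.coeff_C, PowerSeries.coeff_C]
  simp

theorem axis_X_self {K : Type u} [CommRing K] (s : Fin 2) :
    NodeFrob.axis s (MvPowerSeries.X s : MvPowerSeries (Fin 2) K) = PowerSeries.X := by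
  classical
  refine PowerSeries.ext fun n => ?_
  rw [NodeFrob.coeff_axis, MvPowerSeries.coeff_X, PowerSeries.coeff_X]
  refine if_congr ⟨fun h => ?_, fun h => h ▸ rfl⟩ rfl rfl
  rcases Finsupp.single_eq_single_iff _ _ _ _ |>.1 h with ⟨-, h2⟩ | ⟨-, h2⟩
  · exact h2
  · exact absurd h2 one_ne_zero

theorem mem_span_X_of_constantCoeff {K : Type u} [CommRing K] {f : MvPowerSeries (Fin 2) K}
    (h : MvPowerSeries.constantCoeff f = 0) :
    f ∈ Ideal.span {(MvPowerSeries.X 0 : MvPowerSeries (Fin 2) K), MvPowerSeries.X 1} := by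
  classical
  let f1 : MvPowerSeries (Fin 2) K := fun d => if d 0 = 0 then MvPowerSeries.coeff d f else 0
  have hf1 : ∀ d, MvPowerSeries.coeff d f1 = if d 0 = 0 then MvPowerSeries.coeff d f else 0 := fun d => rfl
  obtain ⟨a, ha⟩ : (MvPowerSeries.X 0 : MvPowerSeries (Fin 2) K) ∣ f - f1 :=
    MvPowerSeries.X_dvd_iff.2 fun d hd => by rw [map_sub, hf1, if_pos hd, sub_self]
  obtain ⟨b, hb⟩ : (MvPowerSeries.X 1 : MvPowerSeries (Fin 2) K) ∣ f1 :=
    MvPowerSeries.X_dvd_iff.2 fun d hd => by
      rw [hf1]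
      split_ifs with h0
      · have : d = 0 := by ext i; fin_cases i <;> simpa
        rw [this, MvPowerSeries.coeff_zero_eq_constantCoeff_apply, h]
      · rfl
  exact Ideal.mem_span_pair.2 ⟨a, b, by rw [mul_comm a, mul_comm b, ← ha, ← hb, sub_add_cancel]⟩

variable {K Ω : Type u} [Field K] [Field Ω] [Algebra K Ω]
variable {A B : Type u} [CommRing A] [CommRing B] [Algebra K A] [IsLocalRing A] [IsNoetherianRing A]
  [Algebra Ω B] [IsLocalRing B] [IsNoetherianRing B] [Algebra A B] [IsLocalHom (algebraMap A B)]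

/-- Ordinary double points stay so on extending the ground field. -/
theorem odp_of_ext (hK : ∀ c : K, algebraMap A B (algebraMap K A c) = algebraMap Ω B (algebraMap K Ω c))
    (hm : maximalIdeal B = (maximalIdeal A).map (algebraMap A B))
    (hres : ∀ b : B, ∃ c : Ω, algebraMap Ω B c - b ∈ maximalIdeal B)
    (hext : ∀ φ : A →+* PowerSeries Ω,
      (∀ c : K, φ (algebraMap K A c) = PowerSeries.C (algebraMap K Ω c)) →
      (∀ a ∈ maximalIdeal A, φ a ∈ maximalIdeal (PowerSeries Ω)) →
      ∃ φ' : B →+* PowerSeries Ω, (∀ a, φ' (algebraMap A B a) = φ a) ∧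
        (∀ c : Ω, φ' (algebraMap Ω B c) = PowerSeries.C c) ∧
        ∀ b ∈ maximalIdeal B, φ' b ∈ maximalIdeal (PowerSeries Ω))
    (h : Curv2.IsOrdDoublePt K A) : Curv2.IsOrdDoublePt Ω B := by
  classical
  obtain ⟨e, he⟩ := h
  let Ah := AdicCompletion (maximalIdeal A) A
  let Bh := AdicCompletion (maximalIdeal B) B
  let I : Ideal (MvPowerSeries (Fin 2) K) := Ideal.span {MvPowerSeries.X 0 * MvPowerSeries.X 1}
  let IΩ : Ideal (MvPowerSeries (Fin 2) Ω) := Ideal.span {MvPowerSeries.X 0 * MvPowerSeries.X 1}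
  haveI : IsAdicComplete (maximalIdeal Ω) Ω := by rw [maximalIdeal_eq_bot]; infer_instance
  haveI := GrothLib.RamSam.isAdicComplete_powerSeries_one Ω
  let br : Fin 2 → (Ah →+* PowerSeries Ω) := fun s =>
    (PowerSeries.map (algebraMap K Ω)).comp
      ((Ideal.Quotient.lift I (NodeFrob.axis s) fun f hf => NodeFrob.axis_mem_span hf s).comp e.toRingHom)
  let u : Fin 2 → Ah := fun t => e.symm (Ideal.Quotient.mk I (MvPowerSeries.X t))
  have hbru : ∀ s t, br s (u t) = PowerSeries.map (algebraMap K Ω) (NodeFrob.axis s (MvPowerSeries.X t)) := by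
    intro s t
    show PowerSeries.map (algebraMap K Ω) (Ideal.Quotient.lift I (NodeFrob.axis s)
      (fun f hf => NodeFrob.axis_mem_span hf s) (e (e.symm (Ideal.Quotient.mk I (MvPowerSeries.X t))))) = _
    rw [RingEquiv.apply_symm_apply, Ideal.Quotient.lift_mk]
  have hmaxA : maximalIdeal Ah = (maximalIdeal A).map (algebraMap A Ah) := AdicCompletion.maximalIdeal_eq_map
  have hmaxB : maximalIdeal Bh = (maximalIdeal B).map (algebraMap B Bh) := AdicCompletion.maximalIdeal_eq_map
  have hgenA : maximalIdeal Ah = Ideal.span {u 0, u 1} := by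
    refine le_antisymm (fun a ha => ?_) (Ideal.span_le.2 ?_)
    · obtain ⟨f, hf⟩ := Ideal.Quotient.mk_surjective (e a)
      have hf0 : MvPowerSeries.constantCoeff f = 0 := by
        by_contra hne
        have hu := (((MvPowerSeries.isUnit_iff_constantCoeff.2 (isUnit_iff_ne_zero.2 hne)).map
          (Ideal.Quotient.mk I)).map e.symm)
        rw [hf, e.symm_apply_apply] at hu
        exact ha hu
      obtain ⟨x, y, hxy⟩ := Ideal.mem_span_pair.1 (mem_span_X_of_constantCoeff hf0)
      refine Ideal.mem_span_pair.2 ⟨e.symm (Ideal.Quotient.mk I x), e.symm (Ideal.Quotient.mk I y), ?_⟩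
      apply e.injective
      simp only [u, map_add, map_mul, RingEquiv.apply_symm_apply]
      rw [← map_mul, ← map_mul, ← map_add, hxy, hf]
    · rintro _ (rfl | rfl) <;>
      · intro hu
        have h1 := hu.map (br 0)
        have h2 := (hu.map (br 1))
        rw [hbru] at h1 h2
        first
        | (rw [NodeFrob.axis_X (o := 1) (by decide), map_zero] at h1; exact not_isUnit_zero h1)
        | (rw [NodeFrob.axis_X (o := 0) (by decide), map_zero] at h2; exact not_isUnit_zero h2)
  obtain ⟨ψ0, hψ0⟩ := GrothLib.GeomReg.exists_completion_map A B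
  have hψ0' : ∀ a, ψ0 (algebraMap A Ah a) = algebraMap B Bh (algebraMap A B a) := fun a =>
    RingHom.congr_fun hψ0 a
  have hgenB : maximalIdeal Bh = Ideal.span {ψ0 (u 0), ψ0 (u 1)} := by
    rw [hmaxB, congrArg (Ideal.map (algebraMap B Bh)) hm, Ideal.map_map, ← hψ0, ← Ideal.map_map]
    show Ideal.map ψ0 ((maximalIdeal A).map (algebraMap A Ah)) = _
    rw [← hmaxA, hgenA, Ideal.map_span, Set.image_pair]
  have hresB : ∀ y : Bh, ∃ c : Ω, y - algebraMap Ω Bh c ∈ maximalIdeal Bh := by
    intro y
    obtain ⟨z, hz⟩ := (AdicCompletion.residueField_map_bijective B).2 (residue Bh y)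
    obtain ⟨b, rfl⟩ := residue_surjective z
    obtain ⟨c, hc⟩ := hres b
    rw [ResidueField.map_residue] at hz
    refine ⟨c, ?_⟩
    have h1 : y - algebraMap B Bh b ∈ maximalIdeal Bh := by
      rw [← residue_eq_zero_iff, map_sub, ← hz, sub_self]
    have h2 : algebraMap B Bh (algebraMap Ω B c - b) ∈ maximalIdeal Bh :=
      hmaxB ▸ Ideal.mem_map_of_mem _ hc
    rw [map_sub, ← IsScalarTower.algebraMap_apply Ω B Bh] at h2
    have := sub_mem h1 h2
    rwa [show y - algebraMap B Bh b - (algebraMap Ω Bh c - algebraMap B Bh b) = y - algebraMap Ω Bh c by ring] at this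
  obtain ⟨ψ, hψX0, hψX1, hψs⟩ := GrothLib.NodeNF.exists_surjective (R := Ω) (S := Bh) hresB
    (u := ψ0 (u 0)) (v := ψ0 (u 1)) (by rw [maximalIdeal_eq_bot, Ideal.map_bot, sup_bot_eq, hgenB])
  have hψX : ∀ t, ψ (MvPowerSeries.X t) = ψ0 (u t) := fun t => by fin_cases t <;> assumption
  have hker : RingHom.ker ψ.toRingHom = IΩ := by
    refine le_antisymm (fun f hf => ?_) ?_
    · refine NodeFrob.mem_span_of_axis fun s => ?_
      -- the branch `s` of `B`
      have hloc : ∀ a ∈ maximalIdeal A, br s (algebraMap A Ah a) ∈ maximalIdeal (PowerSeries Ω) := by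
        intro a ha
        have h1 : algebraMap A Ah a ∈ Ideal.span {u 0, u 1} := hgenA ▸ hmaxA ▸ Ideal.mem_map_of_mem _ ha
        have h2 := Ideal.mem_map_of_mem (br s) h1
        rw [Ideal.map_span, Set.image_pair, hbru, hbru] at h2
        refine Ideal.span_le.2 ?_ h2
        rintro _ (rfl | rfl) <;>
        · rw [SetLike.mem_coe, PowerSeries.maximalIdeal_eq_span_X, Ideal.mem_span_singleton,
            PowerSeries.X_dvd_iff, ← PowerSeries.coeff_zero_eq_constantCoeff_apply, PowerSeries.coeff_map,
            NodeFrob.constantCoeff_axis, MvPowerSeries.coeff_zero_eq_constantCoeff_apply,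
            MvPowerSeries.constantCoeff_X, map_zero]
      obtain ⟨φ', hA, hΩ, hloc'⟩ := hext ((br s).comp (algebraMap A Ah)) (fun c => by
        show PowerSeries.map (algebraMap K Ω) (Ideal.Quotient.lift I (NodeFrob.axis s)
          (fun f hf => NodeFrob.axis_mem_span hf s) (e (algebraMap A Ah (algebraMap K A c)))) = _
        rw [he, Ideal.Quotient.lift_mk, axis_C, PowerSeries.map_C]) hloc
      obtain ⟨Θ, hΘ⟩ := GrothLib.CTensor.exists_extend (maximalIdeal B) (maximalIdeal (PowerSeries Ω)) φ'
        (Ideal.map_le_iff_le_comap.2 hloc')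
      have hΘA : Θ.comp ψ0 = br s :=
        GrothLib.CTensor.completion_hom_ext (maximalIdeal A) (IsNoetherian.noetherian _)
          (maximalIdeal (PowerSeries Ω))
          (fun a => by
            show Θ (ψ0 (algebraMap A Ah a)) = br s (algebraMap A Ah a)
            rw [hψ0', hΘ, hA]; rfl)
          (fun a ha => by
            show Θ (ψ0 (algebraMap A Ah a)) ∈ _
            rw [hψ0', hΘ, hA]; exact hloc a ha)
      have hax : Θ.comp ψ.toRingHom = NodeFrob.axis s := by
        refine GrothLib.CTensor.mvPowerSeries_hom_ext (maximalIdeal (PowerSeries Ω)) (fun c => ?_)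
          (fun t => ?_) (fun t => ?_)
        · show Θ (ψ (MvPowerSeries.C c)) = _
          rw [show ψ (MvPowerSeries.C c) = algebraMap Ω Bh c from ψ.commutes c,
            IsScalarTower.algebraMap_apply Ω B Bh, hΘ, hΩ, axis_C]
        · show Θ (ψ (MvPowerSeries.X t)) = _
          rw [hψX, show Θ (ψ0 (u t)) = br s (u t) from RingHom.congr_fun hΘA (u t), hbru]
          rcases eq_or_ne s t with rfl | hst
          · rw [axis_X_self, PowerSeries.map_X, axis_X_self]
          · rw [NodeFrob.axis_X hst, map_zero, NodeFrob.axis_X hst]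
        · show Θ (ψ (MvPowerSeries.X t)) ∈ _
          rw [hψX, show Θ (ψ0 (u t)) = br s (u t) from RingHom.congr_fun hΘA (u t), hbru,
            PowerSeries.maximalIdeal_eq_span_X, Ideal.mem_span_singleton, PowerSeries.X_dvd_iff,
            ← PowerSeries.coeff_zero_eq_constantCoeff_apply, PowerSeries.coeff_map,
            NodeFrob.constantCoeff_axis, MvPowerSeries.coeff_zero_eq_constantCoeff_apply,
            MvPowerSeries.constantCoeff_X, map_zero]
      rw [← RingHom.congr_fun hax f]
      show Θ (ψ f) = 0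
      rw [show ψ f = 0 from hf, map_zero]
    · refine Ideal.span_le.2 ?_
      rintro _ rfl
      show ψ _ = 0
      have hzero : Ideal.Quotient.mk I (MvPowerSeries.X 0 * MvPowerSeries.X 1) = 0 :=
        Ideal.Quotient.eq_zero_iff_mem.2 (Ideal.mem_span_singleton_self _)
      rw [map_mul, hψX, hψX, ← map_mul, show u 0 * u 1 = 0 by
        simp only [u]; rw [← map_mul, ← map_mul, hzero, map_zero], map_zero]
  let E := (Ideal.quotEquivOfEq hker.symm).trans (RingHom.quotientKerEquivOfSurjective hψs)
  refine ⟨E.symm, fun c => ?_⟩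
  apply E.injective
  rw [RingEquiv.apply_symm_apply]
  show _ = ψ (MvPowerSeries.C c)
  rw [show ψ (MvPowerSeries.C c) = algebraMap Ω Bh c from ψ.commutes c]
  rfl

end GrothLib.NodeEt
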