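import Groth.Agent.Lib.NodeEt.Geom

/-!
# Nodes and extensions of the base field
-/

set_option autoImplicit false
set_option linter.all false
set_option backward.isDefEq.respectTransparency false

universe u

open CategoryTheory Limits AlgebraicGeometry IsLocalRing

noncomputable section

namespace GrothLib.NodeEt

variable {k : Type u} [Field k] {X : Scheme.{u}} (sX : X ⟶ Spec (CommRingCat.of k)) [LocallyOfFiniteType sX]

/-- Base change in two steps. -/
theorem exists_tower_iso (F L : Type u) [Field F] [Field L] [Algebra k F] [Algebra k L] [Algebra F L]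
    [IsScalarTower k F L] :
    ∃ ι : pullback (pullback.snd sX (Spec.map (CommRingCat.ofHom (algebraMap k F))))
        (Spec.map (CommRingCat.ofHom (algebraMap F L))) ≅ pullback sX (Spec.map (CommRingCat.ofHom (algebraMap k L))),
      ι.hom ≫ pullback.snd _ _ = pullback.snd _ _ ∧
      ι.hom ≫ pullback.fst _ _ = pullback.fst _ _ ≫ pullback.fst _ _ := by
  have h : IsPullback
      (pullback.fst (pullback.snd sX (Spec.map (CommRingCat.ofHom (algebraMap k F))))
        (Spec.map (CommRingCat.ofHom (algebraMap F L))) ≫ pullback.fst _ _)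
      (pullback.snd _ _) sX (Spec.map (CommRingCat.ofHom (algebraMap k L))) := by
    rw [IsScalarTower.algebraMap_eq k F L, CommRingCat.ofHom_comp, Spec.map_comp]
    exact (IsPullback.of_hasPullback _ _).paste_horiz (IsPullback.of_hasPullback _ _)
  exact ⟨h.isoPullback, h.isoPullback_hom_snd, h.isoPullback_hom_fst⟩

/-- Ordinary double points do not see the two-step base change. -/
theorem odp_tower_iff {F L : Type u} [Field F] [Field L] [IsAlgClosed L] [Algebra k L]
    {sXF : Scheme.{u}} {a : sXF ⟶ Spec (CommRingCat.of L)}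
    (ι : sXF ≅ pullback sX (Spec.map (CommRingCat.ofHom (algebraMap k L)))) (h : ι.hom ≫ pullback.snd _ _ = a)
    (z : sXF) :
    Odp L (pullback.snd sX (Spec.map (CommRingCat.ofHom (algebraMap k L)))) (ι.hom z) ↔ Odp L a z := by
  haveI : LocallyOfFiniteType (pullback.snd sX (Spec.map (CommRingCat.ofHom (algebraMap k L)))) :=
    MorphismProperty.pullback_snd _ _ inferInstance
  refine odp_iff (RingEquiv.refl L) _ a ι.hom ?_ z
  rw [show CommRingCat.ofHom (RingEquiv.refl L).toRingHom = 𝟙 _ from rfl, Spec.map_id, Category.comp_id, h]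

theorem isClosed_iso_iff {W W' : Scheme.{u}} (ι : W ≅ W') (z : W) :
    IsClosed ({z} : Set W) ↔ IsClosed ({ι.hom z} : Set W') := by
  have := (Scheme.homeoOfIso ι).isClosed_image (s := {z})
  rw [Set.image_singleton] at this
  exact this.symm

/-- Nodes and field extensions, on curves. -/
theorem isNode_baseChange_iff (hdim : topologicalKrullDim X ≤ 1) (K : Type u) [Field K] [Algebra k K]
    (y : (pullback sX (Spec.map (CommRingCat.ofHom (algebraMap k K))) :)) :
    @Curv2.IsNode k _ X ⟨sX⟩ (pullback.fst sX (Spec.map (CommRingCat.ofHom (algebraMap k K))) y) ↔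
      @Curv2.IsNode K _ _ ⟨pullback.snd sX (Spec.map (CommRingCat.ofHom (algebraMap k K)))⟩ y := by
  let sK := pullback.snd sX (Spec.map (CommRingCat.ofHom (algebraMap k K)))
  haveI : LocallyOfFiniteType sK := MorphismProperty.pullback_snd _ _ inferInstance
  let L := AlgebraicClosure K
  haveI := surjective_specMap_field K L (algebraMap K L)
  obtain ⟨zy, hzy⟩ := (pullback.fst sK (Spec.map (CommRingCat.ofHom (algebraMap K L)))).surjective y
  obtain ⟨ι, hι2, hι1⟩ := exists_tower_iso sX K L
  set z := ι.hom zy with hz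
  set x := pullback.fst sX (Spec.map (CommRingCat.ofHom (algebraMap k K))) y with hx
  have hzx : pullback.fst sX (Spec.map (CommRingCat.ofHom (algebraMap k L))) z = x := by
    rw [hz, ← Scheme.Hom.comp_apply, hι1, Scheme.Hom.comp_apply]
    erw [hzy]
  constructor
  · intro h
    obtain ⟨hxc, hsep, hnf⟩ := (isNode_iff_nodeForm sX x).1 h
    rw [← hzx] at hxc hsep hnf
    obtain ⟨hzc, hodp⟩ := odp_of_nodeForm sX L z hxc hsep hnf
    have hyc : IsClosed ({y} : Set (pullback sX (Spec.map (CommRingCat.ofHom (algebraMap k K))) :)) := by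
      haveI : IsIntegralHom (Spec.map (CommRingCat.ofHom (algebraMap K L))) :=
        IsIntegralHom.SpecMap_iff.mpr (Algebra.IsIntegral.isIntegral (R := K) (A := L))
      have := (pullback.fst sK (Spec.map (CommRingCat.ofHom (algebraMap K L)))).isClosedMap _
        ((isClosed_iso_iff ι zy).2 hzc)
      rw [Set.image_singleton] at this
      erw [hzy] at this
      exact this
    exact (isNode_iff_odp sK L zy y hzy).2 ⟨hyc, (odp_tower_iff (F := K) sX ι hι2 zy).1 hodp⟩
  · intro h
    obtain ⟨hyc, hodp⟩ := (isNode_iff_odp sK L zy y hzy).1 h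
    have hzc : IsClosed ({z} : Set (pullback sX (Spec.map (CommRingCat.ofHom (algebraMap k L))) :)) :=
      (isClosed_iso_iff ι zy).1 (isClosed_singleton_bc sK L zy (by erw [hzy]; exact hyc))
    replace hodp := (odp_tower_iff (F := K) sX ι hι2 zy).2 hodp
    have hnf := nodeForm_of_odp sX L z hzc hodp
    rw [hzx] at hnf
    have hxc : IsClosed ({x} : Set X) := isClosed_of_nodeForm sX hdim x hnf
    -- through the algebraic closure of the small field
    let E := AlgebraicClosure k
    letI : Algebra E L := (IsAlgClosed.lift (R := k) (S := E) (M := L)).toRingHom.toAlgebra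
    haveI : IsScalarTower k E L :=
      IsScalarTower.of_algebraMap_eq fun c => ((IsAlgClosed.lift (R := k) (S := E) (M := L)).commutes c).symm
    let sE := pullback.snd sX (Spec.map (CommRingCat.ofHom (algebraMap k E)))
    haveI : LocallyOfFiniteType sE := MorphismProperty.pullback_snd _ _ inferInstance
    obtain ⟨κ, hκ2, hκ1⟩ := exists_tower_iso sX E L
    set z' := κ.inv z with hz'
    have hzz' : κ.hom z' = z := by rw [hz', ← Scheme.Hom.comp_apply, κ.inv_hom_id]; rfl
    have hz'c : IsClosed ({z'} : Set _) := (isClosed_iso_iff κ z').2 (by rw [hzz']; exact hzc)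
    have hz'o := (odp_tower_iff (F := E) sX κ hκ2 z').1 (by rw [hzz']; exact hodp)
    have hnfE := nodeForm_of_odp sE L z' hz'c hz'o
    set xb := pullback.fst sE (Spec.map (CommRingCat.ofHom (algebraMap E L))) z' with hxb
    have hxbx : pullback.fst sX (Spec.map (CommRingCat.ofHom (algebraMap k E))) xb = x := by
      rw [hxb, ← Scheme.Hom.comp_apply, ← hκ1, Scheme.Hom.comp_apply, hzz', hzx]
    exact (isNode_iff_odp sX E xb x hxbx).2 ⟨hxc,
      (odp_iff_nodeForm_stalk sX E xb (isClosed_singleton_bc sX E xb (by rw [hxbx]; exact hxc))).2 hnfE⟩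

end GrothLib.NodeEt
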