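import Groth.Agent.Lib.RegLoc.PowerSeries
import Groth.Agent.Lib.HilbSam.Regular
import Mathlib.RingTheory.LocalRing.Length
import Mathlib.RingTheory.Flat.FaithfullyFlat.Basic
import Mathlib.Tactic.LinearCombination

/-!
# Node forms: the Hilbert function and the nondegenerate quadratic relation of a node
-/

set_option autoImplicit false
set_option linter.all false
set_option backward.isDefEq.respectTransparency false

universe u

open IsLocalRing

noncomputable section

namespace GrothLib.NodeEt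

variable {A : Type u} [CommRing A] [IsLocalRing A]

/-- The length of `A / m ^ n`. -/
def lev (A : Type u) [CommRing A] [IsLocalRing A] (n : ℕ) : ℕ∞ := Module.length A (A ⧸ maximalIdeal A ^ n)

/-- A local ring looks like a node: Hilbert function `2n - 1` and a nondegenerate quadratic
relation between two generators of the maximal ideal. -/
def NodeForm (A : Type u) [CommRing A] [IsLocalRing A] : Prop :=
  (∀ n, lev A n = ((2 * n - 1 : ℕ) : ℕ∞)) ∧
  ∃ u v a b c : A, maximalIdeal A = Ideal.span {u, v} ∧ IsUnit (b ^ 2 - 4 * a * c) ∧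
    a * u ^ 2 + b * (u * v) + c * v ^ 2 ∈ maximalIdeal A ^ 3

theorem lev_zero : lev A 0 = 0 := by
  rw [lev, Module.length_eq_zero_iff, Submodule.Quotient.subsingleton_iff, pow_zero, Ideal.one_eq_top]

theorem lev_one : lev A 1 = 1 := by
  haveI : IsSimpleModule A (A ⧸ maximalIdeal A ^ 1) := by
    rw [pow_one]
    exact isSimpleModule_iff_isCoatom.2 (maximalIdeal.isMaximal A).out
  exact Module.length_eq_one A _

section graded

variable {r : ℕ} (n : ℕ) (s : Fin r → A) (hs : ∀ i, s i ∈ maximalIdeal A ^ n)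

/-- The combinations of `s` modulo the next power. -/
def comb : (Fin r → A ⧸ maximalIdeal A) →ₗ[A] A ⧸ maximalIdeal A ^ (n + 1) :=
  ∑ i, (Submodule.liftQ (maximalIdeal A)
    (LinearMap.toSpanSingleton A _ (Submodule.Quotient.mk (p := maximalIdeal A ^ (n + 1)) (s i)))
    (fun x hx => by
      rw [LinearMap.mem_ker, LinearMap.toSpanSingleton_apply, ← Submodule.Quotient.mk_smul,
        Submodule.Quotient.mk_eq_zero, smul_eq_mul, pow_succ']
      exact Ideal.mul_mem_mul hx (hs i))).comp (LinearMap.proj i)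

theorem comb_mk (c : Fin r → A) :
    comb n s hs (fun i => Submodule.Quotient.mk (c i)) = Submodule.Quotient.mk (∑ i, c i * s i) := by
  rw [comb, LinearMap.sum_apply, ← Submodule.mkQ_apply, map_sum]
  refine Finset.sum_congr rfl fun i _ => ?_
  exact (Submodule.Quotient.mk_smul (maximalIdeal A ^ (n + 1)) (c i) (s i)).symm

/-- The reduction from level `n + 1` to level `n`. -/
def red : (A ⧸ maximalIdeal A ^ (n + 1)) →ₗ[A] A ⧸ maximalIdeal A ^ n :=
  Submodule.factor (Ideal.pow_le_pow_right n.le_succ)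

theorem lev_succ : lev A (n + 1) = Module.length A (LinearMap.ker (red (A := A) n)) + lev A n :=
  Module.length_eq_add_of_exact (LinearMap.ker (red (A := A) n)).subtype (red n)
    Subtype.coe_injective (Submodule.factor_surjective (Ideal.pow_le_pow_right n.le_succ)) (LinearMap.exact_subtype_ker_map _)

theorem range_comb_le : LinearMap.range (comb n s hs) ≤ LinearMap.ker (red n) := by
  rintro _ ⟨x, rfl⟩
  choose c hc using fun i => Submodule.Quotient.mk_surjective _ (x i)
  obtain rfl : (fun i => Submodule.Quotient.mk (c i)) = x := funext hc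
  rw [LinearMap.mem_ker, comb_mk]
  show Submodule.factor (Ideal.pow_le_pow_right n.le_succ : maximalIdeal A ^ (n + 1) ≤ maximalIdeal A ^ n) (Submodule.Quotient.mk _) = 0
  refine (Submodule.Quotient.mk_eq_zero _).2 ?_
  exact (Ideal.sum_mem _ fun i _ => Ideal.mul_mem_left _ _ (hs i) : ∑ i, c i * s i ∈ maximalIdeal A ^ n)

theorem length_fin : Module.length A (Fin r → A ⧸ maximalIdeal A) = r := by
  haveI : IsSimpleModule A (A ⧸ maximalIdeal A) :=
    isSimpleModule_iff_isCoatom.2 (maximalIdeal.isMaximal A).out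
  rw [Module.length_pi_of_fintype]
  simp [Module.length_eq_one]

include hs in
theorem lev_succ_le (hgen : maximalIdeal A ^ n ≤ Ideal.span (Set.range s) ⊔ maximalIdeal A ^ (n + 1)) :
    lev A (n + 1) ≤ r + lev A n := by
  rw [lev_succ]
  refine add_le_add ?_ le_rfl
  have hle : LinearMap.ker (red n) ≤ LinearMap.range (comb n s hs) := by
    intro x hx
    obtain ⟨a, rfl⟩ := Submodule.Quotient.mk_surjective _ x
    replace hx : a ∈ maximalIdeal A ^ n := (Submodule.Quotient.mk_eq_zero _).1 hx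
    obtain ⟨y, hy, z, hz, rfl⟩ := Submodule.mem_sup.1 (hgen hx)
    obtain ⟨c, rfl⟩ := (Submodule.mem_span_range_iff_exists_fun A).1 hy
    refine ⟨fun i => Submodule.Quotient.mk (c i), ?_⟩
    rw [comb_mk, Submodule.Quotient.eq]
    simpa [smul_eq_mul] using neg_mem hz
  calc Module.length A (LinearMap.ker (red n)) ≤ Module.length A (LinearMap.range (comb n s hs)) :=
        Module.length_le_of_injective (Submodule.inclusion hle) (Submodule.inclusion_injective hle)
    _ ≤ Module.length A (Fin r → A ⧸ maximalIdeal A) :=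
        Module.length_le_of_surjective (comb n s hs).rangeRestrict (comb n s hs).surjective_rangeRestrict
    _ = r := length_fin

include hs in
theorem le_lev_succ (hind : ∀ c : Fin r → A, ∑ i, c i * s i ∈ maximalIdeal A ^ (n + 1) →
    ∀ i, c i ∈ maximalIdeal A) : r + lev A n ≤ lev A (n + 1) := by
  rw [lev_succ]
  refine add_le_add ?_ le_rfl
  have hinj : Function.Injective ((comb n s hs).codRestrict (LinearMap.ker (red n))
      fun x => range_comb_le n s hs ⟨x, rfl⟩) := by
    rw [injective_iff_map_eq_zero]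
    intro x hx
    replace hx : comb n s hs x = 0 := congrArg Subtype.val hx
    choose c hc using fun i => Submodule.Quotient.mk_surjective _ (x i)
    obtain rfl : (fun i => Submodule.Quotient.mk (c i)) = x := funext hc
    rw [comb_mk, Submodule.Quotient.mk_eq_zero] at hx
    exact funext fun i => (Submodule.Quotient.mk_eq_zero _).2 (hind c hx i)
  rw [← length_fin (A := A) (r := r)]
  exact Module.length_le_of_injective _ hinj

include hs in
theorem coeff_mem (hgen : maximalIdeal A ^ n ≤ Ideal.span (Set.range s) ⊔ maximalIdeal A ^ (n + 1))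
    (hlev : lev A (n + 1) = r + lev A n) (hfin : lev A n ≠ ⊤) (c : Fin r → A)
    (hc : ∑ i, c i * s i ∈ maximalIdeal A ^ (n + 1)) (i : Fin r) : c i ∈ maximalIdeal A := by
  have hrange : LinearMap.range (comb n s hs) = LinearMap.ker (red n) := by
    refine le_antisymm (range_comb_le n s hs) fun x hx => ?_
    obtain ⟨a, rfl⟩ := Submodule.Quotient.mk_surjective _ x
    replace hx : a ∈ maximalIdeal A ^ n := (Submodule.Quotient.mk_eq_zero _).1 hx
    obtain ⟨y, hy, z, hz, rfl⟩ := Submodule.mem_sup.1 (hgen hx)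
    obtain ⟨c, rfl⟩ := (Submodule.mem_span_range_iff_exists_fun A).1 hy
    refine ⟨fun i => Submodule.Quotient.mk (c i), ?_⟩
    rw [comb_mk, Submodule.Quotient.eq]
    simpa [smul_eq_mul] using neg_mem hz
  have h1 : Module.length A (LinearMap.range (comb n s hs)) = r := by
    rw [hrange]
    rw [lev_succ] at hlev
    exact (ENat.add_left_injective_of_ne_top hfin hlev : _)
  have h2 := Module.length_eq_add_of_exact (LinearMap.ker (comb n s hs)).subtype (comb n s hs).rangeRestrict
    Subtype.coe_injective (comb n s hs).surjective_rangeRestrict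
    (by
      rw [LinearMap.exact_iff]
      simp [LinearMap.ker_rangeRestrict])
  rw [length_fin, h1] at h2
  have h3 : Module.length A (LinearMap.ker (comb n s hs)) = 0 :=
    ENat.add_left_injective_of_ne_top (ENat.coe_ne_top r) (h2.symm.trans (zero_add _).symm)
  rw [Module.length_eq_zero_iff, Submodule.subsingleton_iff_eq_bot] at h3
  have h4 : (fun i => (Submodule.Quotient.mk (c i) : A ⧸ maximalIdeal A)) ∈ LinearMap.ker (comb n s hs) := by
    rw [LinearMap.mem_ker, comb_mk, Submodule.Quotient.mk_eq_zero]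
    exact hc
  rw [h3, Submodule.mem_bot] at h4
  exact (Submodule.Quotient.mk_eq_zero _).1 (congrFun h4 i)

end graded

section generators

variable {u v a b c : A} (hm : maximalIdeal A = Ideal.span {u, v}) (hd : IsUnit (b ^ 2 - 4 * a * c))
  (hq : a * u ^ 2 + b * (u * v) + c * v ^ 2 ∈ maximalIdeal A ^ 3)

include hm hq in
theorem gen_step_left (ha : IsUnit a) (n : ℕ) :
    maximalIdeal A ^ (n + 1) ≤ Ideal.span {u * v ^ n, v ^ (n + 1)} ⊔ maximalIdeal A ^ (n + 2) := by
  induction n with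
  | zero => simpa [← hm] using le_sup_left (a := maximalIdeal A)
  | succ n ih =>
    have hu : u ∈ maximalIdeal A := hm ▸ Ideal.subset_span (by simp)
    have hv : v ∈ maximalIdeal A := hm ▸ Ideal.subset_span (by simp)
    rw [pow_succ]
    refine (Ideal.mul_mono ih le_rfl).trans ?_
    rw [Ideal.sup_mul]
    refine sup_le ?_ (by rw [← pow_succ]; exact le_sup_right)
    conv_lhs => rw [hm]
    rw [Ideal.span_mul_span', Ideal.span_le]
    obtain ⟨a', rfl⟩ := ha
    set J := Ideal.span {u * v ^ (n + 1), v ^ (n + 1 + 1)} with hJ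
    have h1 : u * v ^ (n + 1) ∈ J := Ideal.subset_span (by simp)
    have h2 : v ^ (n + 1 + 1) ∈ J := Ideal.subset_span (by simp)
    rintro _ ⟨x, hx, y, hy, rfl⟩
    show x * y ∈ J ⊔ _
    simp only [Set.mem_insert_iff, Set.mem_singleton_iff] at hx hy
    rcases hx with hx | hx <;> rcases hy with hy | hy <;> rw [hx, hy]
    · -- the only monomial outside, rewritten by the relation
      have h3 : (↑a'⁻¹ * ((a' : A) * u ^ 2 + b * (u * v) + c * v ^ 2)) * v ^ n ∈ maximalIdeal A ^ (n + 1 + 2) := by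
        rw [show n + 1 + 2 = 3 + n by omega, pow_add]
        exact Ideal.mul_mem_mul (Ideal.mul_mem_left _ _ hq) (Ideal.pow_mem_pow hv n)
      have h4 : u * v ^ n * u = (↑a'⁻¹ * ((a' : A) * u ^ 2 + b * (u * v) + c * v ^ 2)) * v ^ n +
          (-(↑a'⁻¹ * b)) * (u * v ^ (n + 1)) + (-(↑a'⁻¹ * c)) * v ^ (n + 1 + 1) := by
        have : (↑a'⁻¹ : A) * a' = 1 := Units.inv_mul a'
        linear_combination (-(u ^ 2 * v ^ n)) * this
      rw [h4]
      exact add_mem (add_mem (Ideal.mem_sup_right h3) (Ideal.mem_sup_left (J.mul_mem_left _ h1)))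
        (Ideal.mem_sup_left (J.mul_mem_left _ h2))
    · exact Ideal.mem_sup_left (by convert h1 using 1; ring)
    · exact Ideal.mem_sup_left (by convert h1 using 1; ring)
    · exact Ideal.mem_sup_left (by convert h2 using 1; ring)

include hm hd hq in
theorem gen_step_mid (ha : a ∈ maximalIdeal A) (hc : c ∈ maximalIdeal A) (n : ℕ) :
    maximalIdeal A ^ (n + 1) ≤ Ideal.span {u ^ (n + 1), v ^ (n + 1)} ⊔ maximalIdeal A ^ (n + 2) := by
  have hu : u ∈ maximalIdeal A := hm ▸ Ideal.subset_span (by simp)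
  have hv : v ∈ maximalIdeal A := hm ▸ Ideal.subset_span (by simp)
  have hb : IsUnit b := by
    by_contra hb
    refine (IsLocalRing.mem_maximalIdeal _).1 ?_ hd
    exact sub_mem (Ideal.pow_mem_of_mem _ hb 2 two_pos) (Ideal.mul_mem_left _ _ hc)
  obtain ⟨b', rfl⟩ := hb
  have huv : u * v ∈ maximalIdeal A ^ 3 := by
    have h1 : a * u ^ 2 ∈ maximalIdeal A ^ 3 := by
      rw [pow_succ' _ 2]; exact Ideal.mul_mem_mul ha (Ideal.pow_mem_pow hu 2)
    have h2 : c * v ^ 2 ∈ maximalIdeal A ^ 3 := by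
      rw [pow_succ' _ 2]; exact Ideal.mul_mem_mul hc (Ideal.pow_mem_pow hv 2)
    have := Ideal.mul_mem_left _ (↑b'⁻¹ : A) (sub_mem (sub_mem hq h1) h2)
    convert this using 1
    have e : (↑b'⁻¹ : A) * b' = 1 := Units.inv_mul b'
    linear_combination (-(u * v)) * e
  induction n with
  | zero => simpa [← hm] using le_sup_left (a := maximalIdeal A)
  | succ n ih =>
    rw [pow_succ]
    refine (Ideal.mul_mono ih le_rfl).trans ?_
    rw [Ideal.sup_mul]
    refine sup_le ?_ (by rw [← pow_succ]; exact le_sup_right)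
    conv_lhs => rw [hm]
    rw [Ideal.span_mul_span', Ideal.span_le]
    rintro _ ⟨x, hx, y, hy, rfl⟩
    show x * y ∈ _
    simp only [Set.mem_insert_iff, Set.mem_singleton_iff] at hx hy
    rcases hx with rfl | rfl <;> rcases hy with rfl | rfl
    · exact Ideal.mem_sup_left (Ideal.subset_span (by rw [← pow_succ]; simp))
    · refine Ideal.mem_sup_right ?_
      rw [show n + 1 + 2 = n + 3 by omega, pow_add, show u ^ (n + 1) * y = u ^ n * (u * y) by ring]
      exact Ideal.mul_mem_mul (Ideal.pow_mem_pow hu n) huv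
    · refine Ideal.mem_sup_right ?_
      rw [show n + 1 + 2 = n + 3 by omega, pow_add, show v ^ (n + 1) * y = v ^ n * (y * v) by ring]
      exact Ideal.mul_mem_mul (Ideal.pow_mem_pow hv n) huv
    · exact Ideal.mem_sup_left (Ideal.subset_span (by rw [← pow_succ]; simp))

include hm hd hq in
theorem lev_le (n : ℕ) : lev A n ≤ ((2 * n - 1 : ℕ) : ℕ∞) := by
  have hu : u ∈ maximalIdeal A := hm ▸ Ideal.subset_span (by simp)
  have hv : v ∈ maximalIdeal A := hm ▸ Ideal.subset_span (by simp)
  have hex : ∀ n, ∃ s : Fin 2 → A, (∀ i, s i ∈ maximalIdeal A ^ (n + 1)) ∧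
      maximalIdeal A ^ (n + 1) ≤ Ideal.span (Set.range s) ⊔ maximalIdeal A ^ (n + 2) := by
    intro n
    by_cases ha : IsUnit a
    · refine ⟨![u * v ^ n, v ^ (n + 1)], Fin.forall_fin_two.2 ⟨?_, Ideal.pow_mem_pow hv _⟩, ?_⟩
      · rw [pow_succ']; exact Ideal.mul_mem_mul hu (Ideal.pow_mem_pow hv n)
      · rw [Matrix.range_cons, Matrix.range_cons, Matrix.range_empty, Set.union_empty, Set.singleton_union]
        exact gen_step_left hm hq ha n
    by_cases hc : IsUnit c
    · refine ⟨![v * u ^ n, u ^ (n + 1)], Fin.forall_fin_two.2 ⟨?_, Ideal.pow_mem_pow hu _⟩, ?_⟩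
      · rw [pow_succ']; exact Ideal.mul_mem_mul hv (Ideal.pow_mem_pow hu n)
      · rw [Matrix.range_cons, Matrix.range_cons, Matrix.range_empty, Set.union_empty, Set.singleton_union]
        refine gen_step_left (hm.trans (congrArg Ideal.span (Set.pair_comm u v))) (b := b) (c := a) ?_ hc n
        convert hq using 1; ring
    · refine ⟨![u ^ (n + 1), v ^ (n + 1)],
        Fin.forall_fin_two.2 ⟨Ideal.pow_mem_pow hu _, Ideal.pow_mem_pow hv _⟩, ?_⟩
      rw [Matrix.range_cons, Matrix.range_cons, Matrix.range_empty, Set.union_empty, Set.singleton_union]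
      exact gen_step_mid hm hd hq ha hc n
  induction n with
  | zero => simp [lev_zero]
  | succ n ih =>
    rcases n with _ | n
    · simp [lev_one]
    · obtain ⟨s, hs, hgen⟩ := hex n
      refine (lev_succ_le (n + 1) s hs hgen).trans ?_
      refine (add_le_add le_rfl ih).trans ?_
      rw [← Nat.cast_add, Nat.cast_le]
      omega

end generators

namespace NodeForm

theorem lev_ne_top (h : NodeForm A) (n : ℕ) : lev A n ≠ ⊤ := by rw [h.1]; exact ENat.coe_ne_top _

theorem lev_succ_eq (h : NodeForm A) (n : ℕ) : lev A (n + 1 + 1) = (2 : ℕ) + lev A (n + 1) := by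
  rw [h.1, h.1, ← Nat.cast_add]
  congr 1; omega

theorem linear_coeff_mem (h : NodeForm A) {u v : A} (hm : maximalIdeal A = Ideal.span {u, v}) {p q : A}
    (hpq : p * u + q * v ∈ maximalIdeal A ^ 2) : p ∈ maximalIdeal A ∧ q ∈ maximalIdeal A := by
  have hs : ∀ i, ![u, v] i ∈ maximalIdeal A ^ 1 := by
    rw [pow_one, Fin.forall_fin_two, hm]
    exact ⟨Ideal.subset_span (by simp), Ideal.subset_span (by simp)⟩
  have hg : maximalIdeal A ^ 1 ≤ Ideal.span (Set.range ![u, v]) ⊔ maximalIdeal A ^ (1 + 1) := by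
    rw [Matrix.range_cons, Matrix.range_cons, Matrix.range_empty, Set.union_empty, Set.singleton_union, pow_one]
    exact hm.le.trans le_sup_left
  have := coeff_mem 1 ![u, v] hs hg (h.lev_succ_eq 0) (h.lev_ne_top 1) ![p, q] (by simpa using hpq)
  exact ⟨this 0, this 1⟩

theorem quad_coeff_mem (h : NodeForm A) (s t : A) (hs : s ∈ maximalIdeal A ^ 2) (ht : t ∈ maximalIdeal A ^ 2)
    (hg : maximalIdeal A ^ 2 ≤ Ideal.span {s, t} ⊔ maximalIdeal A ^ 3) {p q : A}
    (hpq : p * s + q * t ∈ maximalIdeal A ^ 3) : p ∈ maximalIdeal A ∧ q ∈ maximalIdeal A := by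
  have := coeff_mem 2 ![s, t] (Fin.forall_fin_two.2 ⟨hs, ht⟩)
    (by rw [Matrix.range_cons, Matrix.range_cons, Matrix.range_empty, Set.union_empty, Set.singleton_union]; exact hg)
    (h.lev_succ_eq 1) (h.lev_ne_top 2) ![p, q] (by simpa using hpq)
  exact ⟨this 0, this 1⟩

/-- The quadratic relation can be written in any pair of generators. -/
theorem exists_form (h : NodeForm A) {u v : A} (hm : maximalIdeal A = Ideal.span {u, v}) :
    ∃ a b c : A, IsUnit (b ^ 2 - 4 * a * c) ∧ a * u ^ 2 + b * (u * v) + c * v ^ 2 ∈ maximalIdeal A ^ 3 := by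
  obtain ⟨u₀, v₀, a, b, c, hm₀, hd, hq⟩ := h.2
  obtain ⟨p, q, hu⟩ := Ideal.mem_span_pair.1 (hm ▸ (hm₀ ▸ Ideal.subset_span (by simp) : u₀ ∈ maximalIdeal A))
  obtain ⟨r, s, hv⟩ := Ideal.mem_span_pair.1 (hm ▸ (hm₀ ▸ Ideal.subset_span (by simp) : v₀ ∈ maximalIdeal A))
  have hdet : IsUnit (p * s - q * r) := by
    by_contra hdet
    have hdet' : p * s - q * r ∈ maximalIdeal A := hdet
    have hu' : u ∈ maximalIdeal A := hm ▸ Ideal.subset_span (by simp)
    have hv' : v ∈ maximalIdeal A := hm ▸ Ideal.subset_span (by simp)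
    have e1 : s * u₀ + -q * v₀ ∈ maximalIdeal A ^ 2 := by
      rw [show s * u₀ + -q * v₀ = (p * s - q * r) * u by rw [← hu, ← hv]; ring, pow_two]
      exact Ideal.mul_mem_mul hdet' hu'
    have e2 : -r * u₀ + p * v₀ ∈ maximalIdeal A ^ 2 := by
      rw [show -r * u₀ + p * v₀ = (p * s - q * r) * v by rw [← hu, ← hv]; ring, pow_two]
      exact Ideal.mul_mem_mul hdet' hv'
    have hp := (h.linear_coeff_mem hm₀ e2).2
    have hq' := (h.linear_coeff_mem hm₀ e1).2
    have e3 : (1 : A) * u₀ + 0 * v₀ ∈ maximalIdeal A ^ 2 := by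
      rw [one_mul, zero_mul, add_zero, ← hu, pow_two]
      exact add_mem (Ideal.mul_mem_mul hp hu') (Ideal.mul_mem_mul (neg_mem_iff.1 hq') hv')
    exact (maximalIdeal A).ne_top_iff_one.1 (maximalIdeal.isMaximal A).ne_top (h.linear_coeff_mem hm₀ e3).1
  refine ⟨a * p ^ 2 + b * p * r + c * r ^ 2, 2 * a * p * q + b * (p * s + q * r) + 2 * c * r * s,
    a * q ^ 2 + b * q * s + c * s ^ 2, ?_, ?_⟩
  · convert hd.mul (hdet.pow 2) using 1; ring
  · convert hq using 1; rw [← hu, ← hv]; ring

theorem disc_isUnit_left (h : NodeForm A) {u v a b c : A} (hm : maximalIdeal A = Ideal.span {u, v})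
    (hd : IsUnit (b ^ 2 - 4 * a * c)) (hq : a * u ^ 2 + b * (u * v) + c * v ^ 2 ∈ maximalIdeal A ^ 3)
    (ha : IsUnit a) {r₀ r₁ r₂ : A} (hr : r₀ * u ^ 2 + r₁ * (u * v) + r₂ * v ^ 2 ∈ maximalIdeal A ^ 3)
    (hne : ¬ (r₀ ∈ maximalIdeal A ∧ r₁ ∈ maximalIdeal A ∧ r₂ ∈ maximalIdeal A)) :
    IsUnit (r₁ ^ 2 - 4 * r₀ * r₂) := by
  have hu : u ∈ maximalIdeal A := hm ▸ Ideal.subset_span (by simp)
  have hv : v ∈ maximalIdeal A := hm ▸ Ideal.subset_span (by simp)
  have hg := gen_step_left hm hq ha 1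
  rw [pow_one] at hg
  obtain ⟨he1, he2⟩ := h.quad_coeff_mem (u * v) (v ^ 2) (by rw [pow_two]; exact Ideal.mul_mem_mul hu hv)
    (Ideal.pow_mem_pow hv 2) hg (p := a * r₁ - r₀ * b) (q := a * r₂ - r₀ * c)
    (by convert sub_mem (Ideal.mul_mem_left _ a hr) (Ideal.mul_mem_left _ r₀ hq) using 1; ring)
  have hr₀ : IsUnit r₀ := by
    by_contra h0
    have h0' : r₀ ∈ maximalIdeal A := h0
    obtain ⟨a', rfl⟩ := ha
    refine hne ⟨h0', ?_, ?_⟩
    · have := add_mem he1 (Ideal.mul_mem_right b _ h0')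
      rw [sub_add_cancel] at this
      exact (Ideal.unit_mul_mem_iff_mem _ a'.isUnit).1 this
    · have := add_mem he2 (Ideal.mul_mem_right c _ h0')
      rw [sub_add_cancel] at this
      exact (Ideal.unit_mul_mem_iff_mem _ a'.isUnit).1 this
  by_contra hn
  have hn' : r₁ ^ 2 - 4 * r₀ * r₂ ∈ maximalIdeal A := hn
  refine (IsLocalRing.mem_maximalIdeal _).1 ?_ ((hr₀.pow 2).mul hd)
  have : r₀ ^ 2 * (b ^ 2 - 4 * a * c) = a ^ 2 * (r₁ ^ 2 - 4 * r₀ * r₂) -
      ((a * r₁ - r₀ * b) * (a * r₁ + r₀ * b) - 4 * r₀ * a * (a * r₂ - r₀ * c)) := by ring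
  rw [this]
  exact sub_mem (Ideal.mul_mem_left _ _ hn') (sub_mem (Ideal.mul_mem_right _ _ he1) (Ideal.mul_mem_left _ _ he2))

/-- Every nontrivial quadratic relation between generators is nondegenerate. -/
theorem disc_isUnit (h : NodeForm A) {u v : A} (hm : maximalIdeal A = Ideal.span {u, v})
    {r₀ r₁ r₂ : A} (hr : r₀ * u ^ 2 + r₁ * (u * v) + r₂ * v ^ 2 ∈ maximalIdeal A ^ 3)
    (hne : ¬ (r₀ ∈ maximalIdeal A ∧ r₁ ∈ maximalIdeal A ∧ r₂ ∈ maximalIdeal A)) :
    IsUnit (r₁ ^ 2 - 4 * r₀ * r₂) := by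
  obtain ⟨a, b, c, hd, hq⟩ := h.exists_form hm
  by_cases ha : IsUnit a
  · exact h.disc_isUnit_left hm hd hq ha hr hne
  by_cases hc : IsUnit c
  · have := h.disc_isUnit_left (hm.trans (congrArg Ideal.span (Set.pair_comm u v))) (a := c) (b := b) (c := a)
      (by convert hd using 1; ring) (by convert hq using 1; ring) hc (r₀ := r₂) (r₁ := r₁) (r₂ := r₀)
      (by convert hr using 1; ring) (fun ⟨x, y, z⟩ => hne ⟨z, y, x⟩)
    convert this using 1; ring
  have hu : u ∈ maximalIdeal A := hm ▸ Ideal.subset_span (by simp)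
  have hv : v ∈ maximalIdeal A := hm ▸ Ideal.subset_span (by simp)
  have hb : IsUnit b := by
    by_contra hb
    exact (IsLocalRing.mem_maximalIdeal _).1
      (sub_mem (Ideal.pow_mem_of_mem _ hb 2 two_pos) (Ideal.mul_mem_left _ _ hc)) hd
  have hg := gen_step_mid hm hd hq ha hc 1
  obtain ⟨e1, e2⟩ := h.quad_coeff_mem (u ^ (1 + 1)) (v ^ (1 + 1)) (Ideal.pow_mem_pow hu 2)
    (Ideal.pow_mem_pow hv 2) hg (p := b * r₀ - r₁ * a) (q := b * r₂ - r₁ * c)
    (by convert sub_mem (Ideal.mul_mem_left _ b hr) (Ideal.mul_mem_left _ r₁ hq) using 1; ring)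
  have h0 : r₀ ∈ maximalIdeal A := by
    have := add_mem e1 (Ideal.mul_mem_left _ r₁ ha)
    rw [sub_add_cancel] at this
    exact (Ideal.unit_mul_mem_iff_mem _ hb).1 this
  have h2 : r₂ ∈ maximalIdeal A := by
    have := add_mem e2 (Ideal.mul_mem_left _ r₁ hc)
    rw [sub_add_cancel] at this
    exact (Ideal.unit_mul_mem_iff_mem _ hb).1 this
  by_contra hn
  refine hne ⟨h0, ?_, h2⟩
  have : r₁ ^ 2 ∈ maximalIdeal A := by
    have := add_mem (show r₁ ^ 2 - 4 * r₀ * r₂ ∈ maximalIdeal A from hn)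
      (Ideal.mul_mem_left (maximalIdeal A) (4 * r₀) h2)
    rwa [sub_add_cancel] at this
  exact (maximalIdeal.isMaximal A).isPrime.mem_of_pow_mem 2 this

end NodeForm

/-- Two elements generating the maximal ideal, from the first Hilbert values. -/
theorem exists_two_generators [IsNoetherianRing A] (h2 : lev A 2 = 3) :
    ∃ u v : A, maximalIdeal A = Ideal.span {u, v} := by
  have h1 := lev_one (A := A)
  have hcase : ∀ (r : ℕ) (s : Fin r → A), r ≤ 2 → (∀ i, s i ∈ maximalIdeal A) →
      (∀ c : Fin r → A, ∑ i, c i * s i ∈ maximalIdeal A ^ 2 → ∀ i, c i ∈ maximalIdeal A) →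
      ¬ maximalIdeal A ≤ Ideal.span (Set.range s) ⊔ maximalIdeal A ^ 2 →
      ∃ x : A, x ∈ maximalIdeal A ∧ ∀ c : Fin (r + 1) → A,
        ∑ i, c i * (Fin.snoc s x : Fin (r + 1) → A) i ∈ maximalIdeal A ^ 2 → ∀ i, c i ∈ maximalIdeal A := by
    intro r s _ hs hind hnot
    obtain ⟨x, hx, hx'⟩ := SetLike.not_le_iff_exists.1 hnot
    refine ⟨x, hx, fun c hc => ?_⟩
    rw [Fin.sum_univ_castSucc] at hc
    simp only [Fin.snoc_castSucc, Fin.snoc_last] at hc
    have hl : c (Fin.last r) ∈ maximalIdeal A := by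
      by_contra hl
      obtain ⟨l, hl⟩ := IsLocalRing.notMem_maximalIdeal.1 hl
      refine hx' ?_
      have h3 : x = (↑l⁻¹ : A) * ((∑ i : Fin r, c i.castSucc * s i) + c (Fin.last r) * x) +
          -(↑l⁻¹ : A) * (∑ i : Fin r, c i.castSucc * s i) := by
        rw [← hl]
        have : (↑l⁻¹ : A) * l = 1 := Units.inv_mul l
        linear_combination (-x) * this
      rw [h3]
      refine add_mem (Ideal.mem_sup_right (Ideal.mul_mem_left _ _ hc)) (Ideal.mem_sup_left ?_)
      exact Ideal.mul_mem_left _ _ (Ideal.sum_mem _ fun i _ => Ideal.mul_mem_left _ _ (Ideal.subset_span ⟨i, rfl⟩))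
    have h4 : c (Fin.last r) * x ∈ maximalIdeal A ^ 2 := by rw [pow_two]; exact Ideal.mul_mem_mul hl hx
    have h5 : ∑ i : Fin r, c i.castSucc * s i ∈ maximalIdeal A ^ 2 := by simpa using sub_mem hc h4
    exact Fin.lastCases hl (hind (fun i => c i.castSucc) h5)
  have hone : ¬ maximalIdeal A ≤ Ideal.span (Set.range (![] : Fin 0 → A)) ⊔ maximalIdeal A ^ 2 := fun hle => by
    have := lev_succ_le 1 (![] : Fin 0 → A) (fun i => i.elim0) (by rw [pow_one]; exact hle)
    rw [h2, h1] at this
    norm_num at this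
  obtain ⟨u, hu, hindu⟩ := hcase 0 ![] (by omega) (fun i => i.elim0) (fun _ _ i => i.elim0) hone
  have hu' : ∀ i, (Fin.snoc (![] : Fin 0 → A) u : Fin 1 → A) i ∈ maximalIdeal A :=
    Fin.lastCases (by rw [Fin.snoc_last]; exact hu) (fun i => i.elim0)
  have htwo : ¬ maximalIdeal A ≤
      Ideal.span (Set.range (Fin.snoc (![] : Fin 0 → A) u : Fin 1 → A)) ⊔ maximalIdeal A ^ 2 := fun hle => by
    have := lev_succ_le 1 (Fin.snoc (![] : Fin 0 → A) u : Fin 1 → A) (by rw [pow_one]; exact hu')
      (by rw [pow_one]; exact hle)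
    rw [h2, h1] at this
    norm_num at this
  obtain ⟨v, hv, hindv⟩ := hcase 1 _ (by omega) hu' hindu htwo
  set s := (Fin.snoc (Fin.snoc (![] : Fin 0 → A) u : Fin 1 → A) v : Fin 2 → A) with hsdef
  have hs : ∀ i, s i ∈ maximalIdeal A := Fin.lastCases (by rw [hsdef, Fin.snoc_last]; exact hv) (fun i => by rw [hsdef, Fin.snoc_castSucc]; exact hu' i)
  have hthree : maximalIdeal A ≤ Ideal.span (Set.range s) ⊔ maximalIdeal A ^ 2 := by
    by_contra hnot
    obtain ⟨w, hw, hindw⟩ := hcase 2 s le_rfl hs hindv hnot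
    have := le_lev_succ 1 (Fin.snoc s w : Fin 3 → A)
      (by rw [pow_one]; exact Fin.lastCases (by rw [Fin.snoc_last]; exact hw) (fun i => by rw [Fin.snoc_castSucc]; exact hs i)) hindw
    rw [h2, h1] at this
    norm_num at this
  refine ⟨u, v, le_antisymm ?_ (Ideal.span_le.2 ?_)⟩
  · have hr : Set.range s = {u, v} := by
      ext x
      simp only [Set.mem_range, Set.mem_insert_iff, Set.mem_singleton_iff, Fin.exists_fin_two, s]
      simp [Fin.snoc, eq_comm]
    rw [hr] at hthree
    refine Submodule.le_of_le_smul_of_le_jacobson_bot (IsNoetherian.noetherian _)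
      (IsLocalRing.maximalIdeal_le_jacobson _) ?_
    rwa [smul_eq_mul, ← pow_two]
  · rintro x (rfl | rfl)
    exacts [hu, hv]

section transfer

variable {B : Type u} [CommRing B] [IsLocalRing B] [Algebra A B] [Module.Flat A B]
  (hmB : (maximalIdeal A).map (algebraMap A B) = maximalIdeal B)

include hmB

theorem isLocalHom_of_map : IsLocalHom (algebraMap A B) :=
  ((local_hom_TFAE (algebraMap A B)).out 2 0).1 hmB.le

theorem lev_eq_of_flat (n : ℕ) : lev B n = lev A n := by
  haveI := isLocalHom_of_map hmB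
  have e := (Algebra.TensorProduct.quotIdealMapEquivTensorQuot B (maximalIdeal A ^ n)).toLinearEquiv.length_eq
  have h := IsLocalRing.length_baseChange A B (A ⧸ maximalIdeal A ^ n)
  rw [← e, Ideal.map_pow, hmB] at h
  haveI : IsSimpleModule B (B ⧸ maximalIdeal B) :=
    isSimpleModule_iff_isCoatom.2 (maximalIdeal.isMaximal B).out
  rwa [Module.length_eq_one B (B ⧸ maximalIdeal B), mul_one] at h

theorem NodeForm.of_flat (h : NodeForm A) : NodeForm B := by
  obtain ⟨u, v, a, b, c, hm, hd, hq⟩ := h.2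
  refine ⟨fun n => by rw [lev_eq_of_flat hmB, h.1], algebraMap A B u, algebraMap A B v, algebraMap A B a,
    algebraMap A B b, algebraMap A B c, ?_, ?_, ?_⟩
  · rw [← hmB, hm, Ideal.map_span, Set.image_pair]
  · convert hd.map (algebraMap A B) using 1; simp only [map_sub, map_mul, map_pow, map_ofNat]
  · rw [← hmB, ← Ideal.map_pow]
    convert Ideal.mem_map_of_mem (algebraMap A B) hq using 1; simp

theorem comap_pow_maximalIdeal (n : ℕ) :
    (maximalIdeal B ^ n).comap (algebraMap A B) = maximalIdeal A ^ n := by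
  haveI := isLocalHom_of_map hmB
  haveI : Module.FaithfullyFlat A B := Module.FaithfullyFlat.of_flat_of_isLocalHom
  rw [← hmB, ← Ideal.map_pow, Ideal.comap_map_eq_self_of_faithfullyFlat]

theorem NodeForm.descend [IsNoetherianRing A] (h : NodeForm B) : NodeForm A := by
  haveI := isLocalHom_of_map hmB
  have hlev : ∀ n, lev A n = ((2 * n - 1 : ℕ) : ℕ∞) := fun n => by rw [← lev_eq_of_flat hmB, h.1]
  obtain ⟨u, v, hm⟩ := exists_two_generators (A := A) (by rw [hlev]; norm_num)
  have hmB' : maximalIdeal B = Ideal.span {algebraMap A B u, algebraMap A B v} := by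
    rw [← hmB, hm, Ideal.map_span, Set.image_pair]
  have hu : u ∈ maximalIdeal A := hm ▸ Ideal.subset_span (by simp)
  have hv : v ∈ maximalIdeal A := hm ▸ Ideal.subset_span (by simp)
  obtain ⟨r, hr, hne⟩ : ∃ r : Fin 3 → A, ∑ i, r i * ![u ^ 2, u * v, v ^ 2] i ∈ maximalIdeal A ^ (2 + 1) ∧
      ∃ i, r i ∉ maximalIdeal A := by
    by_contra hcon
    simp only [not_exists, not_and, not_not] at hcon
    have := le_lev_succ 2 ![u ^ 2, u * v, v ^ 2] ?_ hcon
    · rw [hlev, hlev] at this
      norm_num at this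
    · intro i
      fin_cases i
      · exact Ideal.pow_mem_pow hu 2
      · rw [pow_two]; exact Ideal.mul_mem_mul hu hv
      · exact Ideal.pow_mem_pow hv 2
  simp [Fin.sum_univ_three] at hr
  refine ⟨hlev, u, v, r 0, r 1, r 2, hm, ?_, hr⟩
  refine IsUnit.of_map (algebraMap A B) _ ?_
  simp only [map_sub, map_mul, map_pow, map_ofNat]
  refine h.disc_isUnit hmB' ?_ ?_
  · rw [← comap_pow_maximalIdeal hmB 3, Ideal.mem_comap] at hr
    simpa using hr
  · rintro ⟨h0, h1, h2⟩
    obtain ⟨i, hi⟩ := hne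
    refine hi ?_
    rw [← pow_one (maximalIdeal A), ← comap_pow_maximalIdeal hmB 1, pow_one, Ideal.mem_comap]
    fin_cases i
    exacts [h0, h1, h2]

end transfer

end GrothLib.NodeEt
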