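import Groth.Agent.Lib.NodeEt.Complete
import Mathlib.RingTheory.Kaehler.TensorProduct
import Mathlib.LinearAlgebra.TensorProduct.Tower
import Mathlib.RingTheory.Ideal.Cotangent

/-!
# The differentials at a node cut out the closed point
-/

set_option autoImplicit false
set_option linter.all false
set_option backward.isDefEq.respectTransparency false

universe u

open IsLocalRing TensorProduct

noncomputable section

namespace GrothLib.NodeEt

variable {L : Type u} [Field L] {B : Type u} [CommRing B] [IsLocalRing B] [IsNoetherianRing B] [Algebra L B]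
  (hres : ∀ b : B, ∃ t : L, algebraMap L B t - b ∈ maximalIdeal B)

include hres in
theorem exists_uv [IsAlgClosed L] (h : NodeForm B) :
    ∃ u v : B, maximalIdeal B = Ideal.span {u, v} ∧ u * v ∈ maximalIdeal B ^ 3 := by
  obtain ⟨u, v, a', b', c', hm, hd, hq⟩ := h.2
  obtain ⟨a, ha⟩ := hres a'
  obtain ⟨b, hb⟩ := hres b'
  obtain ⟨c, hc⟩ := hres c'
  set f := algebraMap L B
  have hu : u ∈ maximalIdeal B := hm ▸ Ideal.subset_span (by simp)
  have hv : v ∈ maximalIdeal B := hm ▸ Ideal.subset_span (by simp)
  refine exists_split (K := L) (a := a) (b := b) (c := c) hm (fun h0 => ?_) ?_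
  · refine (IsLocalRing.mem_maximalIdeal _).1 ?_ hd
    have e : b' ^ 2 - 4 * a' * c' = f (b ^ 2 - 4 * a * c) - ((f b - b') * (f b + b')) +
        4 * ((f a - a') * f c + a' * (f c - c')) := by
      simp only [map_sub, map_mul, map_pow, map_ofNat]; ring
    rw [e, h0, map_zero]
    exact add_mem (sub_mem (zero_mem _) (Ideal.mul_mem_right _ _ hb))
      (Ideal.mul_mem_left _ _ (add_mem (Ideal.mul_mem_right _ _ ha) (Ideal.mul_mem_left _ _ hc)))
  · rw [show f a * u ^ 2 + f b * (u * v) + f c * v ^ 2 = (a' * u ^ 2 + b' * (u * v) + c' * v ^ 2) +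
      (f a - a') * u ^ 2 + (f b - b') * (u * v) + (f c - c') * v ^ 2 by ring]
    have key : ∀ s z : B, s ∈ maximalIdeal B → z ∈ maximalIdeal B ^ 2 → s * z ∈ maximalIdeal B ^ 3 := by
      intro s z hs hz
      rw [pow_succ' _ 2]
      exact Ideal.mul_mem_mul hs hz
    exact add_mem (add_mem (add_mem hq (key _ _ ha (Ideal.pow_mem_pow hu 2)))
      (key _ _ hb (by rw [pow_two]; exact Ideal.mul_mem_mul hu hv))) (key _ _ hc (Ideal.pow_mem_pow hv 2))

theorem D_mem_of_mem_pow {Ω : Type u} [AddCommGroup Ω] [Module L Ω] [Module B Ω] (D : Derivation L B Ω)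
    (I : Ideal B) : ∀ (n : ℕ) (x : B), x ∈ I ^ (n + 1) → D x ∈ (I ^ n • ⊤ : Submodule B Ω) := by
  intro n
  induction n with
  | zero => simp
  | succ n ih =>
    intro x hx
    rw [pow_succ] at hx
    induction hx using Submodule.mul_induction_on' with
    | mem_mul_mem s hs t ht =>
      rw [D.leibniz]
      refine add_mem (Submodule.smul_mem_smul hs Submodule.mem_top) ?_
      have h1 := Submodule.smul_mem_smul ht (ih s hs)
      rwa [← mul_smul, ← pow_succ'] at h1
    | add s _ t _ hs ht => rw [map_add]; exact add_mem hs ht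

include hres in
theorem exists_cotangent_derivation :
    ∃ D : Derivation L B (maximalIdeal B).Cotangent, ∀ (x : B) (hx : x ∈ maximalIdeal B),
      D x = (maximalIdeal B).toCotangent ⟨x, hx⟩ := by
  have hbij : Function.Bijective ((residue B).comp (algebraMap L B)) :=
    ⟨RingHom.injective _, fun x => by
      obtain ⟨b, rfl⟩ := residue_surjective x
      obtain ⟨t, ht⟩ := hres b
      exact ⟨t, Ideal.Quotient.eq.2 ht⟩⟩
  let r : B →+* L := (RingEquiv.ofBijective _ hbij).symm.toRingHom.comp (residue B)
  have hr : ∀ b, residue B (algebraMap L B (r b)) = residue B b := fun b =>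
    (RingEquiv.ofBijective _ hbij).apply_symm_apply (residue B b)
  have hrL : ∀ t, r (algebraMap L B t) = t := fun t =>
    (RingEquiv.ofBijective _ hbij).symm_apply_apply t
  have hmem : ∀ b, b - algebraMap L B (r b) ∈ maximalIdeal B := fun b =>
    Ideal.Quotient.eq.1 (hr b).symm
  let D₀ : B →ₗ[L] (maximalIdeal B).Cotangent :=
    { toFun := fun b => (maximalIdeal B).toCotangent ⟨b - algebraMap L B (r b), hmem b⟩
      map_add' := fun a b => by
        rw [← map_add]
        refine congrArg _ (Subtype.ext ?_)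
        simp only [map_add, Submodule.coe_add]; ring
      map_smul' := fun t b => by
        rw [RingHom.id_apply, ← IsScalarTower.algebraMap_smul B t ((maximalIdeal B).toCotangent _), ← map_smul]
        refine congrArg _ (Subtype.ext ?_)
        simp only [Algebra.smul_def, map_mul, hrL, Submodule.coe_smul, Algebra.algebraMap_self, RingHom.id_apply,
          smul_eq_mul]
        ring }
  refine ⟨Derivation.mk' D₀ (fun a b => ?_), fun x hx => ?_⟩
  · show (maximalIdeal B).toCotangent _ = a • (maximalIdeal B).toCotangent _ + b • (maximalIdeal B).toCotangent _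
    rw [← map_smul, ← map_smul, ← map_add, Ideal.toCotangent_eq]
    have : (a * b - algebraMap L B (r (a * b))) - (a * (b - algebraMap L B (r b)) + b * (a - algebraMap L B (r a))) =
        -((a - algebraMap L B (r a)) * (b - algebraMap L B (r b))) := by
      rw [map_mul, map_mul]; ring
    show (a * b - algebraMap L B (r (a * b))) -
      (a * (b - algebraMap L B (r b)) + b * (a - algebraMap L B (r a))) ∈ _
    rw [this, pow_two]
    exact neg_mem (Ideal.mul_mem_mul (hmem a) (hmem b))
  · show (maximalIdeal B).toCotangent _ = _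
    refine congrArg _ (Subtype.ext ?_)
    have : r x = 0 := by
      show (RingEquiv.ofBijective _ hbij).symm (residue B x) = 0
      rw [(residue_eq_zero_iff x).2 hx, map_zero]
    simp [this]

variable {A : Type u} [CommRing A] [IsLocalRing A] [Algebra A B] [IsLocalHom (algebraMap A B)]

/-- A minimal system of generators. -/
theorem exists_minimal_generators (M : Type u) [AddCommGroup M] [Module A M] [Module.Finite A M] :
    ∃ (N : ℕ) (g : Fin N → M), Submodule.span A (Set.range g) = ⊤ ∧
      ∀ c : Fin N → A, ∑ i, c i • g i = 0 → ∀ i, c i ∈ maximalIdeal A := by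
  classical
  have hex : ∃ N, ∃ g : Fin N → M, Submodule.span A (Set.range g) = ⊤ := Module.Finite.exists_fin
  obtain ⟨g, hg⟩ := Nat.find_spec hex
  refine ⟨_, g, hg, fun c hc j => ?_⟩
  by_contra hj
  obtain ⟨d, hd⟩ := IsLocalRing.notMem_maximalIdeal.1 hj
  have hpos : Nat.find hex ≠ 0 := (Fin.pos j).ne'
  obtain ⟨n, hn⟩ := Nat.exists_eq_succ_of_ne_zero hpos
  refine Nat.find_min hex (show n < Nat.find hex by omega) ⟨fun i => g (Fin.cast hn.symm ((Fin.cast hn j).succAbove i)),
    top_le_iff.1 (hg.symm.le.trans (Submodule.span_le.2 ?_))⟩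
  rintro _ ⟨i, rfl⟩
  set S := Submodule.span A (Set.range fun i => g (Fin.cast hn.symm ((Fin.cast hn j).succAbove i)))
  have hne : ∀ i, i ≠ j → g i ∈ S := by
    intro i hi
    obtain ⟨i', hi'⟩ := Fin.exists_succAbove_eq (x := Fin.cast hn i) (y := Fin.cast hn j)
      (fun h => hi (Fin.cast_injective _ h))
    exact Submodule.subset_span ⟨i', by simp [hi']⟩
  by_cases hi : i = j
  · subst hi
    have h1 : c i • g i = -∑ x ∈ Finset.univ.erase i, c x • g x := by
      rw [eq_neg_iff_add_eq_zero, Finset.add_sum_erase _ (fun x => c x • g x) (Finset.mem_univ i), hc]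
    have h2 : g i = (↑d⁻¹ : A) • (c i • g i) := by rw [smul_smul, ← hd, Units.inv_mul, one_smul]
    rw [h2, h1]
    exact Submodule.smul_mem _ _ (neg_mem (Submodule.sum_mem _ fun x hx =>
      Submodule.smul_mem _ _ (hne x (Finset.ne_of_mem_erase hx))))
  · exact hne i hi

include hres in
/-- At a node the maximal ideal is extended from below as soon as the differentials are. -/
theorem map_maximalIdeal_of_nodeForm [IsAlgClosed L] (h : NodeForm B) (M : Type u) [AddCommGroup M] [Module A M]
    [Module.Finite A M] (e : B ⊗[A] M ≃ₗ[B] Ω[B⁄L]) :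
    (maximalIdeal A).map (algebraMap A B) = maximalIdeal B := by
  classical
  refine le_antisymm (((local_hom_TFAE (algebraMap A B)).out 0 2).1 ‹IsLocalHom (algebraMap A B)›) ?_
  obtain ⟨N, g, hg, hmin⟩ := exists_minimal_generators (A := A) M
  set IB := (maximalIdeal A).map (algebraMap A B) with hIB
  -- the coordinates modulo `IB`
  let π : (Fin N → A) →ₗ[A] M := Fintype.linearCombination A g
  have hπ : Function.Surjective π := by
    rw [← LinearMap.range_eq_top, Fintype.range_linearCombination, hg]
  let q : (Fin N → A) →ₗ[A] (Fin N → B ⧸ IB) := LinearMap.pi fun i =>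
    ((Algebra.linearMap A (B ⧸ IB))).comp (LinearMap.proj i)
  have hq : LinearMap.ker π ≤ LinearMap.ker q := by
    intro c hc
    rw [LinearMap.mem_ker] at hc ⊢
    have := hmin c (by simpa [π, Fintype.linearCombination_apply] using hc)
    ext i
    show algebraMap A (B ⧸ IB) (c i) = 0
    rw [IsScalarTower.algebraMap_apply A B (B ⧸ IB), Ideal.Quotient.algebraMap_eq,
      Ideal.Quotient.eq_zero_iff_mem]
    exact Ideal.mem_map_of_mem _ (this i)
  let φ : M →ₗ[A] (Fin N → B ⧸ IB) :=
    (Submodule.liftQ _ q hq).comp (LinearMap.quotKerEquivOfSurjective π hπ).symm.toLinearMap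
  have hφ : ∀ c, φ (π c) = q c := fun c => by
    show Submodule.liftQ _ q hq ((LinearMap.quotKerEquivOfSurjective π hπ).symm (π c)) = q c
    rw [show (LinearMap.quotKerEquivOfSurjective π hπ).symm (π c) = Submodule.Quotient.mk c from
      (LinearMap.quotKerEquivOfSurjective π hπ).injective (by rw [LinearEquiv.apply_symm_apply]; rfl)]
    rfl
  let Φ : Ω[B⁄L] →ₗ[B] (Fin N → B ⧸ IB) := (φ.liftBaseChange B).comp e.symm.toLinearMap
  let w : Fin N → Ω[B⁄L] := fun i => e (1 ⊗ₜ g i)
  have hcoord : ∀ c : Fin N → B, ∑ i, c i • w i = 0 → ∀ i, c i ∈ IB := by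
    intro c hc i
    have h1 := congrArg Φ hc
    rw [map_sum, map_zero] at h1
    have h2 : ∀ j, Φ (c j • w j) = Pi.single j (Ideal.Quotient.mk IB (c j)) := fun j => by
      rw [map_smul]
      show c j • φ.liftBaseChange B (e.symm (e (1 ⊗ₜ g j))) = _
      rw [LinearEquiv.symm_apply_apply, LinearMap.liftBaseChange_tmul, one_smul,
        show g j = π (Pi.single j 1) by simp [π, Fintype.linearCombination_apply_single], hφ]
      ext l
      show c j • algebraMap A (B ⧸ IB) ((Pi.single j (1 : A) : Fin N → A) l) = _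
      by_cases hl : l = j
      · subst hl; simp [Algebra.smul_def]
      · simp [Pi.single_eq_of_ne hl]
    simp only [h2] at h1
    have h3 := congrFun h1 i
    rw [Finset.sum_apply, Finset.sum_eq_single i (fun b _ hb => Pi.single_eq_of_ne (Ne.symm hb) _) (by simp),
      Pi.single_eq_same, Pi.zero_apply, Ideal.Quotient.eq_zero_iff_mem] at h3
    exact h3
  have hwtop : ∀ z : Ω[B⁄L], ∃ c : Fin N → B, ∑ i, c i • w i = z := by
    intro z
    obtain ⟨t, rfl⟩ := e.surjective z
    induction t using TensorProduct.induction_on with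
    | zero => exact ⟨0, by simp⟩
    | tmul b x =>
      obtain ⟨a, rfl⟩ := hπ x
      refine ⟨fun i => b * algebraMap A B (a i), ?_⟩
      simp only [π, Fintype.linearCombination_apply, TensorProduct.tmul_sum, map_sum, w]
      refine Finset.sum_congr rfl fun i _ => ?_
      rw [← map_smul, TensorProduct.smul_tmul', smul_eq_mul, mul_one, TensorProduct.tmul_smul]
      rw [TensorProduct.smul_tmul', Algebra.smul_def, mul_comm b]
    | add s t hs ht =>
      obtain ⟨c, hc⟩ := hs
      obtain ⟨c', hc'⟩ := ht
      exact ⟨c + c', by simp [add_smul, Finset.sum_add_distrib, hc, hc']⟩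
  obtain ⟨u, v, hm, huv⟩ := exists_uv hres h
  obtain ⟨p, hp⟩ := hwtop (KaehlerDifferential.D L B u)
  obtain ⟨r, hr⟩ := hwtop (KaehlerDifferential.D L B v)
  set J := IB ⊔ maximalIdeal B ^ 2 with hJ
  have hJmem : ∀ i, u * r i + v * p i ∈ J := by
    intro i
    have h1 := D_mem_of_mem_pow (KaehlerDifferential.D L B) (maximalIdeal B) 2 _ huv
    obtain ⟨s, hs, hs'⟩ : ∃ s : Fin N → B, (∀ i, s i ∈ maximalIdeal B ^ 2) ∧
        ∑ i, s i • w i = KaehlerDifferential.D L B (u * v) := by
      generalize KaehlerDifferential.D L B (u * v) = w' at h1 ⊢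
      induction h1 using Submodule.smul_induction_on' with
      | smul a ha z hz =>
        obtain ⟨c, hc⟩ := hwtop z
        exact ⟨fun i => a * c i, fun i => Ideal.mul_mem_right _ _ ha, by simp [← hc, Finset.smul_sum, mul_smul]⟩
      | add x _ y _ hx hy =>
        obtain ⟨c, hc, hc'⟩ := hx
        obtain ⟨d, hd, hd'⟩ := hy
        exact ⟨c + d, fun i => add_mem (hc i) (hd i), by simp [add_smul, Finset.sum_add_distrib, hc', hd']⟩
    have h2 : ∑ i, (u * r i + v * p i - s i) • w i = 0 := by
      simp only [sub_smul, add_smul, mul_smul, Finset.sum_sub_distrib, Finset.sum_add_distrib, ← Finset.smul_sum,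
        hp, hr, hs', Derivation.leibniz, sub_self]
    have := add_mem (Ideal.mem_sup_left (T := maximalIdeal B ^ 2) (hcoord _ h2 i)) (Ideal.mem_sup_right (hs i))
    simpa using this
  -- the coordinates of `du`, `dv` are independent
  obtain ⟨Dc, hDc⟩ := exists_cotangent_derivation hres
  have hum : u ∈ maximalIdeal B := hm ▸ Ideal.subset_span (by simp)
  have hvm : v ∈ maximalIdeal B := hm ▸ Ideal.subset_span (by simp)
  have hind : ∀ α β : B, (∀ i, α * p i + β * r i ∈ maximalIdeal B) → α ∈ maximalIdeal B ∧ β ∈ maximalIdeal B := by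
    intro α β hαβ
    refine h.linear_coeff_mem hm ?_
    have h1 : α • Dc u + β • Dc v = 0 := by
      have h2 : Dc.liftKaehlerDifferential (α • KaehlerDifferential.D L B u + β • KaehlerDifferential.D L B v) =
          α • Dc u + β • Dc v := by
        rw [map_add, map_smul, map_smul, Derivation.liftKaehlerDifferential_comp_D,
          Derivation.liftKaehlerDifferential_comp_D]
      rw [← h2, ← hp, ← hr, Finset.smul_sum, Finset.smul_sum, ← Finset.sum_add_distrib, map_sum]
      refine Finset.sum_eq_zero fun i _ => ?_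
      rw [smul_smul, smul_smul, ← add_smul, map_smul]
      obtain ⟨y, hy⟩ := (maximalIdeal B).toCotangent_surjective (Dc.liftKaehlerDifferential (w i))
      rw [← hy, ← map_smul, Ideal.toCotangent_eq_zero, Submodule.coe_smul, smul_eq_mul, pow_two]
      exact Ideal.mul_mem_mul (hαβ i) y.2
    rw [hDc u hum, hDc v hvm, ← map_smul, ← map_smul, ← map_add, Ideal.toCotangent_eq_zero] at h1
    simpa using h1
  obtain ⟨i, j, hij⟩ : ∃ i j, IsUnit (p i * r j - p j * r i) := by
    by_contra hcon
    simp only [not_exists] at hcon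
    obtain ⟨i, hi⟩ : ∃ i, p i ∉ maximalIdeal B := by
      by_contra hall
      simp only [not_exists, not_not] at hall
      exact (maximalIdeal B).ne_top_iff_one.1 (maximalIdeal.isMaximal B).ne_top
        (hind 1 0 fun i => by simpa using hall i).1
    refine hi (neg_mem_iff.1 (hind (r i) (-p i) fun j => ?_).2)
    rw [show r i * p j + -p i * r j = -(p i * r j - p j * r i) by ring]
    exact neg_mem (hcon i j)
  obtain ⟨Δ, hΔ⟩ := hij
  have hu' : u ∈ J := by
    rw [← Ideal.unit_mul_mem_iff_mem J Δ.isUnit, hΔ,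
      show (p i * r j - p j * r i) * u = p i * (u * r j + v * p j) - p j * (u * r i + v * p i) by ring]
    exact sub_mem (J.mul_mem_left _ (hJmem j)) (J.mul_mem_left _ (hJmem i))
  have hv' : v ∈ J := by
    rw [← Ideal.unit_mul_mem_iff_mem J Δ.isUnit, hΔ,
      show (p i * r j - p j * r i) * v = r j * (u * r i + v * p i) - r i * (u * r j + v * p j) by ring]
    exact sub_mem (J.mul_mem_left _ (hJmem i)) (J.mul_mem_left _ (hJmem j))
  refine Submodule.le_of_le_smul_of_le_jacobson_bot (IsNoetherian.noetherian _)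
    (IsLocalRing.maximalIdeal_le_jacobson _) ?_
  rw [smul_eq_mul, ← pow_two]
  conv_lhs => rw [hm]
  rw [Ideal.span_le]
  rintro z (rfl | rfl)
  exacts [hu', hv']

end GrothLib.NodeEt
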