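import Groth.Agent.Lib.NodeEt.Geom
import Groth.Agent.Lib.CoeffField.Basic

/-!
# Nodes and completed local rings
-/

set_option autoImplicit false
set_option linter.all false
set_option backward.isDefEq.respectTransparency false

universe u

open CategoryTheory Limits AlgebraicGeometry IsLocalRing

noncomputable section

namespace GrothLib.NodeEt

/-- The quadratic normal form of the completion. -/
theorem exists_completion_equiv {k : Type u} [Field k] {A : Type u} [CommRing A] [IsLocalRing A] [IsNoetherianRing A]
    [Algebra k A] [Module.Finite k (ResidueField A)] [Algebra.IsSeparable k (ResidueField A)] (h : NodeForm A) :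
    ∃ a b c : ResidueField A, b ^ 2 - 4 * a * c ≠ 0 ∧
      ∃ e : AdicCompletion (maximalIdeal A) A ≃+*
        (MvPowerSeries (Fin 2) (ResidueField A) ⧸ Ideal.span {quadSeries (ResidueField A) a b c}),
        ∀ t : k, e (algebraMap A _ (algebraMap k A t)) =
          Ideal.Quotient.mk _ (MvPowerSeries.C (algebraMap k (ResidueField A) t)) := by
  set S := AdicCompletion (maximalIdeal A) A
  haveI : IsAdicComplete (maximalIdeal S) S := by
    rw [AdicCompletion.maximalIdeal_eq_map]
    exact AdicCompletion.isAdicComplete_self _ (maximalIdeal A).fg_of_isNoetherianRing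
  let φ : ResidueField A ≃+* ResidueField S := RingEquiv.ofBijective _ (AdicCompletion.residueField_map_bijective A)
  have hφ : RingHom.comp (algebraMap k (ResidueField S)) (RingEquiv.refl k : k →+* k) =
      RingHom.comp (φ : _ →+* _) (algebraMap k (ResidueField A)) := RingHom.ext fun c => by
    show algebraMap k (ResidueField S) c = φ (algebraMap k (ResidueField A) c)
    rw [IsScalarTower.algebraMap_apply k S (ResidueField S), IsScalarTower.algebraMap_apply k A (ResidueField A)]
    exact (ResidueField.map_residue _ _).symm
  haveI : Algebra.IsSeparable k (ResidueField S) :=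
    Algebra.IsSeparable.of_equiv_equiv (RingEquiv.refl k) φ hφ
  haveI : Algebra.FormallyEtale k (ResidueField S) := Algebra.FormallyEtale.of_isSeparable _ _
  obtain ⟨s, hs⟩ := GrothLib.CoeffField.exists_section k S
  let σ : ResidueField A →+* S := s.toRingHom.comp φ.toRingHom
  have hσ : Function.Surjective ((residue S).comp σ) := fun x => ⟨φ.symm x, by
    show residue S (s (φ (φ.symm x))) = x
    rw [RingEquiv.apply_symm_apply, hs]⟩
  obtain ⟨a, b, c, hd, e, he⟩ := exists_standard σ hσ ((nodeForm_completion_iff A).2 h)
  refine ⟨a, b, c, hd, e.symm, fun t => e.injective ?_⟩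
  rw [RingEquiv.apply_symm_apply, he]
  rw [← IsScalarTower.algebraMap_apply k A S]
  show algebraMap k S t = s (φ (algebraMap k (ResidueField A) t))
  rw [show φ (algebraMap k (ResidueField A) t) = algebraMap k (ResidueField S) t from (RingHom.congr_fun hφ t).symm,
    AlgHom.commutes]

end GrothLib.NodeEt
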